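import Groth.Agent.RootChLib.Form
import Mathlib.LinearAlgebra.Dual.Basis

/-! Bases, positive roots, fundamental weights, closed chambers. -/

noncomputable section

namespace RootChLib

open Module RootPairing RootCh Set

variable {ι R M N : Type*} [Field R] [LinearOrder R] [IsStrictOrderedRing R]
  [AddCommGroup M] [Module R M] [AddCommGroup N] [Module R N] [Fintype ι]
  {P : RootPairing ι R M N} [P.IsRootSystem]

/-- Coefficient of a root on a simple root. -/
def cf (b : P.Base) (i : ι) (j : b.support) : R := b.toWeightBasis.repr (P.root i) j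

lemma root_eq_sum_cf (b : P.Base) (i : ι) :
    P.root i = ∑ j : b.support, cf b i j • P.root j := by
  conv_lhs => rw [← b.toWeightBasis.sum_repr (P.root i)]
  simp [cf]

lemma cf_eq_int (b : P.Base) {i : ι} {f : ι → ℤ}
    (hf : P.root i = ∑ j ∈ b.support, f j • P.root j) (j : b.support) : cf b i j = f j := by
  classical
  have h : P.root i = ∑ j : b.support, (f j : R) • b.toWeightBasis j := by
    simp only [Base.toWeightBasis_apply, Int.cast_smul_eq_zsmul]
    rw [hf, ← Finset.sum_coe_sort]
  rw [cf, h, Basis.repr_sum_self]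

lemma exists_int_cf (b : P.Base) (i : ι) (j : b.support) : ∃ z : ℤ, cf b i j = z := by
  obtain ⟨f, _, _, hf⟩ := b.exists_root_eq_sum_int i
  exact ⟨f j, cf_eq_int b hf j⟩

lemma cf_nonneg {b : P.Base} {i : ι} (hi : b.IsPos i) (j : b.support) : 0 ≤ cf b i j := by
  obtain ⟨f, _, h1, hf⟩ := b.exists_root_eq_sum_int i
  have hpos : 0 < f := by
    refine h1.resolve_right fun hneg => ?_
    rw [Base.isPos_iff, Base.height_eq_sum hf] at hi
    exact absurd hi (not_lt.2 (Finset.sum_nonpos fun k _ => hneg.le k))
  rw [cf_eq_int b hf j]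
  exact_mod_cast hpos.le j

lemma exists_cf_pos {b : P.Base} {i : ι} (hi : b.IsPos i) : ∃ j : b.support, 0 < cf b i j := by
  by_contra h
  push Not at h
  exact P.ne_zero i (by
    rw [root_eq_sum_cf b i]
    exact Finset.sum_eq_zero fun j _ => by rw [le_antisymm (h j) (cf_nonneg hi j), zero_smul])

lemma cf_simple [DecidableEq ι] (b : P.Base) (k j : b.support) :
    cf b k j = if k = j then 1 else 0 := by
  rw [cf, ← Base.toWeightBasis_apply, Basis.repr_self, Finsupp.single_apply]

lemma root'_eq_sum_cf (b : P.Base) (i : ι) (y : N) :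
    P.root' i y = ∑ j : b.support, cf b i j * P.root' j y := by
  conv_lhs => rw [RootPairing.root', root_eq_sum_cf b i]
  simp [RootPairing.root']

lemma rootForm_root_eq_sum_cf (b : P.Base) (i : ι) (ξ : M) :
    P.RootForm (P.root i) (P.root i) / 2 * P.coroot' i ξ =
      ∑ j : b.support, cf b i j * (P.RootForm (P.root j) (P.root j) / 2 * P.coroot' j ξ) := by
  simp only [← root'_phi_eq]
  exact root'_eq_sum_cf b i _

lemma pos_or_neg (b : P.Base) (i : ι) : b.IsPos i ∨ b.IsPos (P.reflectionPerm i i) :=
  Base.IsPos.or_neg b i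

lemma neg_isPos_iff (b : P.Base) (i : ι) : b.IsPos (P.reflectionPerm i i) ↔ ¬ b.IsPos i :=
  Base.IsPos.neg_iff_not b i

lemma neg_neg_index (i : ι) :
    P.reflectionPerm (P.reflectionPerm i i) (P.reflectionPerm i i) = i := by
  let := P.indexNeg
  exact neg_neg i

lemma root'_nonneg {b : P.Base} {i : ι} (hi : b.IsPos i) {y : N}
    (hy : ∀ j ∈ b.support, 0 ≤ P.root' j y) : 0 ≤ P.root' i y := by
  rw [root'_eq_sum_cf b]
  exact Finset.sum_nonneg fun j _ => mul_nonneg (cf_nonneg hi j) (hy j j.2)

lemma root'_pos {b : P.Base} {i : ι} (hi : b.IsPos i) {y : N}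
    (hy : ∀ j ∈ b.support, 0 < P.root' j y) : 0 < P.root' i y := by
  rw [root'_eq_sum_cf b]
  obtain ⟨j, hj⟩ := exists_cf_pos hi
  exact Finset.sum_pos' (fun k _ => mul_nonneg (cf_nonneg hi k) (hy k k.2).le)
    ⟨j, Finset.mem_univ j, mul_pos hj (hy j j.2)⟩

lemma coroot'_nonneg {b : P.Base} {i : ι} (hi : b.IsPos i) {ξ : M} (hξ : ξ ∈ closedChamber b) :
    0 ≤ P.coroot' i ξ := by
  have h := root'_nonneg hi (y := phi P ξ) (fun j hj => by
    rw [root'_phi_eq]; exact mul_nonneg (half_pos (rootForm_root_pos j)).le (hξ j hj))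
  rw [root'_phi_eq] at h
  exact nonneg_of_mul_nonneg_right h (half_pos (rootForm_root_pos i))

lemma coroot'_pos {b : P.Base} {i : ι} (hi : b.IsPos i) {ξ : M} (hξ : ξ ∈ openChamber b) :
    0 < P.coroot' i ξ := by
  have h := root'_pos hi (y := phi P ξ) (fun j hj => by
    rw [root'_phi_eq]; exact mul_pos (half_pos (rootForm_root_pos j)) (hξ j hj))
  rw [root'_phi_eq] at h
  exact pos_of_mul_pos_right h (half_pos (rootForm_root_pos i)).le

lemma isPos_iff_root'_pos {b : P.Base} {y : N} (hy : ∀ j ∈ b.support, 0 < P.root' j y) (i : ι) :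
    b.IsPos i ↔ 0 < P.root' i y := by
  refine ⟨fun hi => root'_pos hi hy, fun h => ?_⟩
  by_contra hi
  have := root'_pos ((neg_isPos_iff b i).2 hi) hy
  rw [root'_neg] at this
  linarith

/-- The sum of fundamental weights. -/
def rho (b : P.Base) : M := ∑ i : b.support, fundWeight b i

lemma coroot'_fundWeight [DecidableEq ι] (b : P.Base) (i j : b.support) :
    P.coroot' j (fundWeight b i) = if j = i then 1 else 0 := by
  split
  next h => subst h; exact coroot'_fundWeight_self b j
  next h => exact coroot'_fundWeight_of_ne b i j h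

lemma coroot'_sum_fundWeight (b : P.Base) (a : b.support → R) (j : b.support) :
    P.coroot' j (∑ i, a i • fundWeight b i) = a j := by
  classical
  rw [map_sum, Finset.sum_eq_single j]
  · rw [map_smul, coroot'_fundWeight, if_pos rfl, smul_eq_mul, mul_one]
  · intro i _ hi
    rw [map_smul, coroot'_fundWeight, if_neg (Ne.symm hi), smul_zero]
  · simp

lemma coroot'_rho (b : P.Base) (j : b.support) : P.coroot' j (rho b) = 1 := by
  have := coroot'_sum_fundWeight b (fun _ => 1) j
  simpa [rho] using this

lemma rho_mem_openChamber (b : P.Base) : rho b ∈ openChamber b := fun j hj => by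
  rw [coroot'_rho b ⟨j, hj⟩]; exact one_pos

lemma isPos_iff_coroot'_rho (b : P.Base) (i : ι) : b.IsPos i ↔ 0 < P.coroot' i (rho b) := by
  refine ⟨fun h => coroot'_pos h (rho_mem_openChamber b), fun h => ?_⟩
  by_contra hi
  have := coroot'_pos ((neg_isPos_iff b i).2 hi) (rho_mem_openChamber b)
  rw [coroot'_neg] at this
  linarith

lemma root'_fundCoweight [DecidableEq ι] (b : P.Base) (i j : b.support) :
    P.root' j (fundCoweight b i) = if j = i then 1 else 0 := by
  split
  next h => subst h; exact root'_fundCoweight_self b j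
  next h => exact root'_fundCoweight_of_ne b i j h

lemma eq_of_forall_coroot'_support (b : P.Base) {ξ η : M}
    (h : ∀ j : b.support, P.coroot' j ξ = P.coroot' j η) : ξ = η := by
  apply P.toPerfPair.injective
  apply b.toCoweightBasis.ext
  intro j
  rw [b.toCoweightBasis_apply]
  exact h j

lemma eq_of_forall_root'_support (b : P.Base) {y z : N}
    (h : ∀ j : b.support, P.root' j y = P.root' j z) : y = z :=
  eq_of_forall_coroot'_support (P := P.flip) b.flip h

lemma weight_expansion (b : P.Base) (ξ : M) :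
    ξ = ∑ j : b.support, P.coroot' j ξ • fundWeight b j := by
  classical
  exact eq_of_forall_coroot'_support b fun k => by rw [coroot'_sum_fundWeight]

lemma linearIndependent_fundWeight (b : P.Base) : LinearIndependent R (fundWeight b) := by
  rw [Fintype.linearIndependent_iff]
  intro g hg j
  have := coroot'_sum_fundWeight b g j
  rw [hg, map_zero] at this
  exact this.symm

lemma fundWeight_injective (b : P.Base) : Function.Injective (fundWeight b) :=
  (linearIndependent_fundWeight b).injective

lemma toLinearMap_fundWeight (b : P.Base) (i : b.support) (y : N) :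
    P.toLinearMap (fundWeight b i) y = b.toCoweightBasis.repr y i := by
  have h : P.toLinearMap (P.toPerfPair.symm (b.toCoweightBasis.coord i)) =
      b.toCoweightBasis.coord i :=
    P.toLinearMap.apply_symm_toPerfPair_self _
  rw [fundWeight, h, Basis.coord_apply]

lemma coweight_expansion (b : P.Base) (y : N) :
    y = ∑ j : b.support, P.toLinearMap (fundWeight b j) y • P.coroot j := by
  conv_lhs => rw [← b.toCoweightBasis.sum_repr y]
  simp [toLinearMap_fundWeight]

lemma fundWeight_mem_closedChamber (b : P.Base) (i : b.support) :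
    fundWeight b i ∈ closedChamber b := by
  classical
  intro j hj
  rw [coroot'_fundWeight b i ⟨j, hj⟩]
  split <;> norm_num

lemma exists_int_coroot' (b : P.Base) {ξ : M}
    (h : ∀ j ∈ b.support, ∃ z : ℤ, P.coroot' j ξ = z) (i : ι) :
    ∃ z : ℤ, P.coroot' i ξ = z := by
  have hmem := b.coroot_mem_span_int i
  suffices ∀ y ∈ Submodule.span ℤ (P.coroot '' b.support), ∃ z : ℤ, P.toLinearMap ξ y = z from
    this _ hmem
  intro y hy
  induction hy using Submodule.span_induction with
  | mem y hy => obtain ⟨j, hj, rfl⟩ := hy; exact h j hj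
  | zero => exact ⟨0, by simp⟩
  | add y z _ _ h1 h2 =>
    obtain ⟨a, ha⟩ := h1
    obtain ⟨c, hc⟩ := h2
    exact ⟨a + c, by simp [ha, hc]⟩
  | smul n y _ h1 =>
    obtain ⟨a, ha⟩ := h1
    exact ⟨n * a, by simp [ha]⟩

lemma exists_int_coroot'_fundWeight (b : P.Base) (i : b.support) (l : ι) :
    ∃ z : ℤ, P.coroot' l (fundWeight b i) = z := by
  classical
  refine exists_int_coroot' b (fun j hj => ?_) l
  rw [coroot'_fundWeight b i ⟨j, hj⟩]
  split
  · exact ⟨1, by simp⟩
  · exact ⟨0, by simp⟩

lemma exists_int_root'_fundCoweight (b : P.Base) (i : b.support) (l : ι) :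
    ∃ z : ℤ, P.root' l (fundCoweight b i) = z :=
  exists_int_coroot'_fundWeight (P := P.flip) b.flip i l

lemma sgnVec_zero_or_eq {b : P.Base} {ξ η : M} (hξ : ξ ∈ closedChamber b)
    (hη : η ∈ closedChamber b)
    (h : ∀ j ∈ b.support, P.coroot' j η = 0 → P.coroot' j ξ = 0) (i : ι) :
    sgnVec P ξ i = 0 ∨ sgnVec P ξ i = sgnVec P η i := by
  have key : ∀ i, b.IsPos i → P.coroot' i ξ = 0 ∨ (0 < P.coroot' i ξ ∧ 0 < P.coroot' i η) := by
    intro i hi
    rcases (coroot'_nonneg hi hξ).eq_or_lt with h0 | h0
    · exact Or.inl h0.symm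
    refine Or.inr ⟨h0, (coroot'_nonneg hi hη).lt_of_ne fun h1 => ?_⟩
    have h2 := rootForm_root_eq_sum_cf b i η
    rw [← h1, mul_zero] at h2
    have hz : ∀ j : b.support, cf b i j * (P.RootForm (P.root j) (P.root j) / 2 * P.coroot' j η)
        = 0 := fun j => (Finset.sum_eq_zero_iff_of_nonneg fun j _ =>
          mul_nonneg (cf_nonneg hi j) (mul_nonneg (half_pos (rootForm_root_pos (j : ι))).le
            (hη j j.2))).1 h2.symm j (Finset.mem_univ j)
    have h3 := rootForm_root_eq_sum_cf b i ξ
    rw [Finset.sum_eq_zero (fun j _ => ?_)] at h3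
    · exact absurd h3 (mul_pos (half_pos (rootForm_root_pos i)) h0).ne'
    rcases mul_eq_zero.1 (hz j) with hj | hj
    · rw [hj, zero_mul]
    · rw [h j j.2 ((mul_eq_zero.1 hj).resolve_left (half_pos (rootForm_root_pos (j : ι))).ne'),
        mul_zero, mul_zero]
  rcases pos_or_neg b i with hi | hi
  · rcases key i hi with h1 | ⟨h1, h2⟩
    · exact Or.inl (by rw [sgnVec, h1, sign_zero])
    · exact Or.inr (by rw [sgnVec, sgnVec, sign_pos h1, sign_pos h2])
  · rcases key _ hi with h1 | ⟨h1, h2⟩
    · rw [coroot'_neg, neg_eq_zero] at h1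
      exact Or.inl (by rw [sgnVec, h1, sign_zero])
    · rw [coroot'_neg, neg_pos] at h1 h2
      exact Or.inr (by rw [sgnVec, sgnVec, sign_neg h1, sign_neg h2])

variable [P.IsCrystallographic]

lemma base_ext {b b' : P.Base} (h : ∀ i, b.IsPos i ↔ b'.IsPos i) : b = b' := by
  have key : ∀ (b b' : P.Base), (∀ i, b.IsPos i ↔ b'.IsPos i) → b.support ⊆ b'.support := by
    intro b b' h i hi
    by_contra hni
    have hi' : b'.IsPos i := (h i).1 (Base.isPos_of_mem_support hi)
    obtain ⟨j, hj, hpos⟩ := hi'.exists_mem_support_pos_pairingIn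
    rw [P.zero_lt_pairingIn_iff'] at hpos
    have hij : i ≠ j := fun e => hni (e ▸ hj)
    obtain ⟨k, hk⟩ := P.root_sub_root_mem_of_pairingIn_pos hpos hij
    have hk' : b'.IsPos k := hi'.sub hj hk
    have h1 : b.height i = b.height k + b.height j := b.height_add (by rw [hk]; abel)
    have h2 : 0 < b.height k := (h k).2 hk'
    have h3 : 0 < b.height j := (h j).2 (Base.isPos_of_mem_support hj)
    rw [Base.height_one_of_mem_support hi] at h1
    omega
  have hs := (key b b' h).antisymm (key b' b fun i => (h i).symm)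
  cases b; cases b'; simp_all

variable [P.IsReduced]

lemma exists_base_of_generic {y : N} (hy : ∀ i, P.root' i y ≠ 0) :
    ∃ b : P.Base, ∀ i, b.IsPos i ↔ 0 < P.root' i y := by
  let _i := P.indexNeg
  let f : Module.Dual R M := P.flip.toLinearMap y
  have hf : ∀ i, f (P.root i) ≠ 0 := fun i => hy i
  let s := IsAddIndecomposable.baseOf P.root (f : M →+ R)
  refine ⟨Base.mk' P s (P.linearIndepOn_root_baseOf' (S := R) f hf)
    (fun i => IsAddIndecomposable.mem_or_neg_mem_closure_baseOf P.root (f : M →+ R) i (hf i)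
      (by simp)), fun i => isPos_iff_root'_pos (fun j hj => ?_) i⟩
  have hj' : j ∈ s := by simpa [Base.mk'] using hj
  exact hj'.1

lemma exists_generic : ∃ y : N, ∀ i, P.root' i y ≠ 0 := by
  obtain ⟨f, hf⟩ := Module.exists_dual_forall_apply_ne_zero (K := R) P.root (fun i => P.ne_zero i)
  refine ⟨P.flip.toPerfPair.symm f, fun i => ?_⟩
  have h : P.flip.toLinearMap (P.flip.toPerfPair.symm f) = f :=
    P.flip.toLinearMap.apply_symm_toPerfPair_self _
  show P.flip.toLinearMap (P.flip.toPerfPair.symm f) (P.root i) ≠ 0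
  rw [h]
  exact hf i

omit [P.IsRootSystem] [P.IsCrystallographic] [P.IsReduced] [Fintype ι] in
lemma exists_eps [Finite ι] (a c : ι → R) :
    ∃ ε : R, 0 < ε ∧ ∀ i, a i ≠ 0 → |ε * c i| < |a i| := by
  classical
  have := Fintype.ofFinite ι
  let K := 1 + ∑ i, if a i = 0 then 0 else |c i| / |a i|
  have h0 : ∀ i, 0 ≤ if a i = 0 then 0 else |c i| / |a i| := fun i => by
    split
    · exact le_rfl
    · positivity
  have hK : 0 < K := add_pos_of_pos_of_nonneg one_pos (Finset.sum_nonneg fun i _ => h0 i)
  refine ⟨1 / K, by positivity, fun i hi => ?_⟩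
  rw [abs_mul, abs_of_pos (by positivity : (0 : R) < 1 / K), div_mul_eq_mul_div, one_mul,
    div_lt_iff₀ hK]
  have h1 : |c i| / |a i| < K := by
    have := Finset.single_le_sum (fun j _ => h0 j) (Finset.mem_univ i)
    rw [if_neg hi] at this
    linarith
  rw [div_lt_iff₀ (abs_pos.2 hi)] at h1
  linarith

/-- Every vector lies in some closed chamber; moreover the base can be chosen so that every
root positive on the vector is positive. -/
lemma exists_base_closedChamber (ξ : M) : ∃ b : P.Base, ξ ∈ closedChamber b := by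
  obtain ⟨g, hg⟩ := exists_generic (P := P)
  obtain ⟨ε, hε, hlt⟩ := exists_eps (fun i => P.root' i (phi P ξ)) (fun i => P.root' i g)
  let y := phi P ξ + ε • g
  have hy : ∀ i, P.root' i y = P.root' i (phi P ξ) + ε * P.root' i g := fun i => by
    simp [y]
  have hne : ∀ i, P.root' i y ≠ 0 := by
    intro i h
    rw [hy] at h
    rcases eq_or_ne (P.root' i (phi P ξ)) 0 with h0 | h0
    · rw [h0, zero_add] at h
      exact hg i ((mul_eq_zero.1 h).resolve_left hε.ne')
    · have := hlt i h0
      rw [show ε * P.root' i g = -P.root' i (phi P ξ) by linarith, abs_neg] at this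
      exact lt_irrefl _ this
  obtain ⟨b, hb⟩ := exists_base_of_generic hne
  refine ⟨b, fun j hj => ?_⟩
  by_contra hneg
  push Not at hneg
  have h1 := (hb j).1 (Base.isPos_of_mem_support hj)
  have h2 : P.root' j (phi P ξ) < 0 := by
    rw [root'_phi_eq]; exact mul_neg_of_pos_of_neg (half_pos (rootForm_root_pos j)) hneg
  have h3 := hlt j h2.ne
  rw [abs_of_neg h2] at h3
  rw [hy] at h1
  have := le_abs_self (ε * P.root' j g)
  linarith

lemma exists_base_reflect (b : P.Base) (k : ι) (hk : k ∈ b.support) :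
    ∃ b' : P.Base, ∀ i, b'.IsPos i ↔ ((b.IsPos i ∧ i ≠ k) ∨ i = P.reflectionPerm k k) := by
  have hy : ∀ i, P.root' i (phi P (rho b)) ≠ 0 ∧ (b.IsPos i ↔ 0 < P.root' i (phi P (rho b))) := by
    intro i
    have hsimp : ∀ j ∈ b.support, 0 < P.root' j (phi P (rho b)) := fun j hj => by
      rw [root'_phi_eq]; exact mul_pos (half_pos (rootForm_root_pos j)) (rho_mem_openChamber b j hj)
    refine ⟨?_, isPos_iff_root'_pos hsimp i⟩
    rcases pos_or_neg b i with h | h
    · exact (root'_pos h hsimp).ne'
    · have := root'_pos h hsimp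
      rw [root'_neg, neg_pos] at this
      exact this.ne
  have hco : ∀ i y, P.root' i (P.coreflection k y) = P.root' (P.reflectionPerm k i) y :=
    fun i y => P.flip.coroot'_reflection (i := k) (j := i) y
  obtain ⟨b', hb'⟩ := exists_base_of_generic
    (y := P.coreflection k (phi P (rho b))) (fun i => by rw [hco]; exact (hy _).1)
  refine ⟨b', fun i => ?_⟩
  rw [hb', hco, ← (hy _).2]
  constructor
  · intro h
    by_cases hik : P.reflectionPerm k i = k
    · right
      rw [← hik]
      nth_rewrite 2 [← hik]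
      rw [hik]
      exact ((P.reflectionPerm k).injective (by simp [hik])).symm
    · left
      have := h.reflectionPerm hk hik
      rw [RootPairing.reflectionPerm_self] at this
      refine ⟨this, fun e => ?_⟩
      subst e
      exact (neg_isPos_iff b i).1 h this
  · rintro (⟨h, hik⟩ | rfl)
    · exact h.reflectionPerm hk hik
    · rw [RootPairing.reflectionPerm_self]
      exact Base.isPos_of_mem_support hk

end RootChLib

end
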