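import Groth.Agent.RootChLib.Bases

/-! Facets, adjacent chambers, corners. -/

noncomputable section

namespace RootChLib

open Module RootPairing RootCh Set

variable {ι R M N : Type*} [Field R] [LinearOrder R] [IsStrictOrderedRing R]
  [AddCommGroup M] [Module R M] [AddCommGroup N] [Module R N] [Fintype ι]
  {P : RootPairing ι R M N} [P.IsRootSystem]

lemma mem_closedChamber_congr {b : P.Base} {ξ η : M} (h : sgnVec P ξ = sgnVec P η) :
    ξ ∈ closedChamber b ↔ η ∈ closedChamber b := by
  refine forall₂_congr fun j _ => ?_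
  rw [← sign_nonneg_iff, ← sign_nonneg_iff (a := P.coroot' j η)]
  exact Iff.of_eq (congrArg (0 ≤ ·) (congrFun h j))

lemma mem_cham_iff {F : Facet P} {b : P.Base} {ξ : M} (hξ : ξ ∈ F.carrier) :
    b ∈ F.cham ↔ ξ ∈ closedChamber b :=
  ⟨fun h => h hξ, fun h η hη => (mem_closedChamber_congr (hη.trans hξ.symm)).2 h⟩

lemma carrier_nonempty (F : Facet P) : ∃ ξ, ξ ∈ F.carrier := F.exists_sgnVec_eq

lemma mem_carrier_ofVec (ξ : M) : ξ ∈ (Facet.ofVec P ξ).carrier := rfl

lemma mem_closure_ofVec_of {b : P.Base} {ξ η : M} (hξ : ξ ∈ closedChamber b)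
    (hη : η ∈ closedChamber b) (h : ∀ j ∈ b.support, P.coroot' j η = 0 → P.coroot' j ξ = 0) :
    ξ ∈ (Facet.ofVec P η).closure := fun i => sgnVec_zero_or_eq hξ hη h i

lemma closure_subset_closedChamber {F : Facet P} {b : P.Base} (hb : b ∈ F.cham) :
    F.closure ⊆ closedChamber b := by
  obtain ⟨η, hη⟩ := carrier_nonempty F
  intro ξ hξ j hj
  rw [← sign_nonneg_iff]
  rcases hξ j with h | h
  · exact h.ge
  · rw [show SignType.sign (P.coroot' j ξ) = F.sgn j from h,
      ← show sgnVec P η j = F.sgn j from congrFun hη j]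
    exact sign_nonneg_iff.2 (hb hη j hj)

lemma sgn_simple {F : Facet P} {b : P.Base} (hb : b ∈ F.cham) (j : b.support) :
    F.sgn j = 0 ∨ F.sgn j = 1 := by
  obtain ⟨η, hη⟩ := carrier_nonempty F
  rw [← show sgnVec P η j = F.sgn j from congrFun hη j]
  rcases (hb hη j j.2).eq_or_lt with h | h
  · exact Or.inl (by rw [sgnVec, ← h, sign_zero])
  · exact Or.inr (sign_pos h)

lemma coroot'_eq_zero_iff_sgn {F : Facet P} {ξ : M} (hξ : ξ ∈ F.carrier) (i : ι) :
    P.coroot' i ξ = 0 ↔ F.sgn i = 0 := by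
  rw [← show sgnVec P ξ i = F.sgn i from congrFun hξ i]
  exact sign_eq_zero_iff.symm

lemma mem_carrier_iff {F : Facet P} {b : P.Base} (hb : b ∈ F.cham) {ξ : M} :
    ξ ∈ F.carrier ↔ ξ ∈ closedChamber b ∧ ∀ j : b.support, P.coroot' j ξ = 0 ↔ F.sgn j = 0 := by
  obtain ⟨η, hη⟩ := carrier_nonempty F
  refine ⟨fun h => ⟨hb h, fun j => coroot'_eq_zero_iff_sgn h j⟩, fun ⟨h1, h2⟩ => ?_⟩
  refine (funext fun i => ?_ : sgnVec P ξ = sgnVec P η).trans hη
  have e : ∀ j ∈ b.support, P.coroot' j η = 0 ↔ P.coroot' j ξ = 0 := fun j hj => by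
    rw [h2 ⟨j, hj⟩, coroot'_eq_zero_iff_sgn hη]
  rcases sgnVec_zero_or_eq h1 (hb hη) (fun j hj => (e j hj).1) i with h | h
  · rcases sgnVec_zero_or_eq (hb hη) h1 (fun j hj => (e j hj).2) i with h' | h'
    · rw [h, h']
    · exact h'.symm
  · exact h

lemma mem_carrier_weight_sum {F : Facet P} {b : P.Base} (hb : b ∈ F.cham) (a : b.support → R)
    (ha : ∀ j : b.support, F.sgn j = 0 → a j = 0)
    (ha' : ∀ j : b.support, F.sgn j ≠ 0 → 0 < a j) :
    ∑ j, a j • fundWeight b j ∈ F.carrier := by
  rw [mem_carrier_iff hb]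
  refine ⟨fun j hj => ?_, fun j => ?_⟩
  · rw [coroot'_sum_fundWeight b a ⟨j, hj⟩]
    by_cases h : F.sgn j = 0
    · exact (ha ⟨j, hj⟩ h).ge
    · exact (ha' ⟨j, hj⟩ h).le
  · rw [coroot'_sum_fundWeight]
    exact ⟨fun h => by_contra fun h' => (ha' j h').ne' h, ha j⟩

variable [P.IsCrystallographic] [P.IsReduced]

lemma cham_nonempty (F : Facet P) : F.cham.Nonempty := by
  obtain ⟨η, hη⟩ := carrier_nonempty F
  obtain ⟨b, hb⟩ := exists_base_closedChamber (P := P) η
  exact ⟨b, (mem_cham_iff hη).2 hb⟩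

omit [P.IsCrystallographic] [P.IsReduced] in
lemma baseCorners_eq (b : P.Base) : baseCorners b = range (fundWeight b) := by
  classical
  refine Set.Subset.antisymm ?_ ?_
  · rintro w ⟨⟨b', k, rfl⟩, hw⟩
    set w := fundWeight b' k
    have hw' : w ∈ closedChamber b' := fundWeight_mem_closedChamber b' k
    have hex : ∃ j : b.support, P.coroot' j w ≠ 0 := by
      by_contra h
      push Not at h
      have h0 : w = 0 := eq_of_forall_coroot'_support b fun j => by simp only [h j, map_zero]
      have h1 := coroot'_fundWeight b' k k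
      rw [if_pos rfl, show fundWeight b' k = w from rfl, h0, map_zero] at h1
      exact one_ne_zero h1.symm
    have key : ∀ j : b.support, P.coroot' j w ≠ 0 →
        ∃ c : ℤ, fundWeight b j = (c : R) • w := by
      intro j hj
      have hmem := mem_closure_ofVec_of (fundWeight_mem_closedChamber b j) hw (fun i hi h0 => by
        rw [coroot'_fundWeight b j ⟨i, hi⟩, if_neg]
        rintro rfl
        exact hj h0)
      obtain ⟨c, hc⟩ := exists_int_coroot'_fundWeight b j k
      refine ⟨c, eq_of_forall_coroot'_support b' fun i => ?_⟩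
      rw [map_smul, smul_eq_mul, show w = fundWeight b' k from rfl, coroot'_fundWeight]
      split
      next h => subst h; rw [mul_one, hc]
      next h =>
        rw [mul_zero]
        rcases hmem i with h0 | h0
        · exact sign_eq_zero_iff.1 h0
        · refine sign_eq_zero_iff.1 (h0.trans ?_)
          show SignType.sign (P.coroot' i w) = 0
          rw [show w = fundWeight b' k from rfl, coroot'_fundWeight, if_neg h, sign_zero]
    obtain ⟨j, hj⟩ := hex
    obtain ⟨c, hc⟩ := key j hj
    have h1 : P.coroot' j (fundWeight b j) = 1 := coroot'_fundWeight_self b j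
    rw [hc, map_smul, smul_eq_mul] at h1
    obtain ⟨a, ha⟩ := exists_int_coroot'_fundWeight b' k j
    rw [show P.coroot' j w = a from ha] at h1
    have ha0 : (0 : R) ≤ a := (hw j j.2).trans_eq ha
    have hca : c * a = 1 := by exact_mod_cast h1
    have hc1 : c = 1 := by
      rcases Int.mul_eq_one_iff_eq_one_or_neg_one.1 hca with ⟨h, -⟩ | ⟨-, h⟩
      · exact h
      · rw [h] at ha0; norm_num at ha0
    exact ⟨j, by rw [hc, hc1, Int.cast_one, one_smul]⟩
  · rintro w ⟨j, rfl⟩
    exact ⟨⟨b, j, rfl⟩, fundWeight_mem_closedChamber b j⟩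

omit [P.IsCrystallographic] [P.IsReduced] in
lemma fundWeight_mem_baseCorners (b : P.Base) (j : b.support) :
    fundWeight b j ∈ baseCorners b := by
  rw [baseCorners_eq]; exact mem_range_self j

omit [P.IsCrystallographic] [P.IsReduced] in
lemma corners_eq {F : Facet P} {b : P.Base} (hb : b ∈ F.cham) :
    F.corners = fundWeight b '' {j | F.sgn j ≠ 0} := by
  classical
  obtain ⟨η, hη⟩ := carrier_nonempty F
  refine Set.Subset.antisymm ?_ ?_
  · rintro w ⟨hw, hw'⟩
    obtain ⟨j, rfl⟩ := (baseCorners_eq b).subset ⟨hw, closure_subset_closedChamber hb hw'⟩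
    refine ⟨j, fun h0 => ?_, rfl⟩
    have : sgnVec P (fundWeight b j) j = 0 := (hw' j).elim id (fun h => h.trans h0)
    rw [sgnVec, sign_eq_zero_iff, coroot'_fundWeight, if_pos rfl] at this
    exact one_ne_zero this
  · rintro w ⟨j, hj, rfl⟩
    refine ⟨⟨b, j, rfl⟩, fun i => ?_⟩
    rw [← show sgnVec P η i = F.sgn i from congrFun hη i]
    refine sgnVec_zero_or_eq (fundWeight_mem_closedChamber b j) (hb hη) (fun l hl h0 => ?_) i
    rw [coroot'_fundWeight b j ⟨l, hl⟩, if_neg]
    rintro rfl
    exact hj ((coroot'_eq_zero_iff_sgn hη l).1 h0)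

omit [P.IsCrystallographic] [P.IsReduced] in
lemma fundWeight_mem_corners_iff {F : Facet P} {b : P.Base} (hb : b ∈ F.cham) (j : b.support) :
    fundWeight b j ∈ F.corners ↔ F.sgn j ≠ 0 := by
  rw [corners_eq hb, (fundWeight_injective b).mem_set_image, Set.mem_setOf_eq]

omit [P.IsCrystallographic] [P.IsReduced] in
lemma carrier_expansion {F : Facet P} {b : P.Base} (hb : b ∈ F.cham) {ξ : M} (hξ : ξ ∈ F.carrier) :
    ξ = ∑ j : b.support, P.coroot' j ξ • fundWeight b j ∧
      (∀ j : b.support, F.sgn j = 0 → P.coroot' j ξ = 0) ∧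
      ∀ j : b.support, F.sgn j ≠ 0 → 0 < P.coroot' j ξ := by
  refine ⟨weight_expansion b ξ, fun j h => (coroot'_eq_zero_iff_sgn hξ j).2 h, fun j h => ?_⟩
  exact (hb hξ j j.2).lt_of_ne fun e => h ((coroot'_eq_zero_iff_sgn hξ j).1 e.symm)

lemma span_carrier (F : Facet P) :
    Submodule.span R F.carrier = Submodule.span R F.corners := by
  obtain ⟨b, hb⟩ := cham_nonempty F
  refine le_antisymm (Submodule.span_le.2 fun ξ hξ => ?_) (Submodule.span_le.2 ?_)
  · obtain ⟨h1, h2, -⟩ := carrier_expansion hb hξ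
    rw [SetLike.mem_coe, h1]
    refine Submodule.sum_mem _ fun j _ => ?_
    by_cases h : F.sgn j = 0
    · rw [h2 j h, zero_smul]; exact zero_mem _
    · exact Submodule.smul_mem _ _ (Submodule.subset_span ((fundWeight_mem_corners_iff hb j).2 h))
  · rw [corners_eq hb]
    rintro w ⟨j, hj, rfl⟩
    classical
    obtain ⟨η, hη⟩ := carrier_nonempty F
    obtain ⟨h1, h2, h3⟩ := carrier_expansion hb hη
    have hmem : η + fundWeight b j ∈ F.carrier := by
      rw [weight_expansion b (η + fundWeight b j)]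
      refine mem_carrier_weight_sum hb _ (fun i hi => ?_) (fun i hi => ?_)
      · rw [map_add, h2 i hi, coroot'_fundWeight, if_neg (fun e : i = j => hj (by rw [← e]; exact hi)), add_zero]
      · rw [map_add]
        exact add_pos_of_pos_of_nonneg (h3 i hi) (fundWeight_mem_closedChamber b j i i.2)
    have := Submodule.sub_mem _ (Submodule.subset_span hmem) (Submodule.subset_span (R := R) hη)
    rwa [add_sub_cancel_left] at this

lemma linearIndepOn_corners (F : Facet P) : LinearIndepOn R (fun m : M => m) F.corners := by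
  obtain ⟨b, hb⟩ := cham_nonempty F
  rw [corners_eq hb]
  exact ((linearIndependent_fundWeight b).linearIndepOn_id.mono (Set.image_subset_range _ _))

omit [P.IsCrystallographic] [P.IsReduced] in
/-- Facet obtained from a prescribed set of simple indices. -/
lemma exists_facet_of_set (b : P.Base) (J : Set b.support) :
    ∃ G : Facet P, b ∈ G.cham ∧ (∀ j : b.support, G.sgn j ≠ 0 ↔ j ∈ J) ∧
      G.corners = fundWeight b '' J := by
  classical
  let a : b.support → R := fun j => if j ∈ J then 1 else 0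
  let ξ := ∑ j, a j • fundWeight b j
  have hc : ξ ∈ closedChamber b := fun j hj => by
    rw [coroot'_sum_fundWeight b a ⟨j, hj⟩]; simp only [a]; split <;> norm_num
  have hb : b ∈ (Facet.ofVec P ξ).cham := (mem_cham_iff (mem_carrier_ofVec ξ)).2 hc
  have hs : ∀ j : b.support, (Facet.ofVec P ξ).sgn j ≠ 0 ↔ j ∈ J := fun j => by
    rw [Ne, ← coroot'_eq_zero_iff_sgn (mem_carrier_ofVec ξ), coroot'_sum_fundWeight]
    simp [a]
  refine ⟨_, hb, hs, ?_⟩
  rw [corners_eq hb]
  congr 1
  ext j
  exact hs j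

lemma exists_corners_insert (F : Facet P) {m : M} (hm : m ∈ F.corners') :
    ∃ G : Facet P, G.corners = insert m F.corners := by
  simp only [Facet.corners', mem_iUnion] at hm
  obtain ⟨b, hb, hm⟩ := hm
  obtain ⟨j, rfl⟩ := (baseCorners_eq b).subset hm
  obtain ⟨G, -, -, hG⟩ := exists_facet_of_set b (insert j {i | F.sgn i ≠ 0})
  exact ⟨G, by rw [hG, image_insert_eq, corners_eq hb]⟩

lemma exists_corners_diff (F : Facet P) {m : M} (hm : m ∈ F.corners) :
    ∃ G : Facet P, G.corners = F.corners \ {m} := by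
  obtain ⟨b, hb⟩ := cham_nonempty F
  rw [corners_eq hb] at hm ⊢
  obtain ⟨j, -, rfl⟩ := hm
  obtain ⟨G, -, -, hG⟩ := exists_facet_of_set b ({i : b.support | F.sgn i ≠ 0} \ {j})
  exact ⟨G, by rw [hG, Set.image_sdiff (fundWeight_injective b), image_singleton]⟩

omit [P.IsCrystallographic] [P.IsReduced] in
lemma phi_fundWeight (b : P.Base) (i : b.support) :
    phi P (fundWeight b i) =
      (P.RootForm (P.root i) (P.root i) / 2) • fundCoweight b i := by
  classical
  refine eq_of_forall_root'_support b fun j => ?_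
  rw [root'_phi_eq, coroot'_fundWeight, map_smul, root'_fundCoweight, smul_eq_mul]
  split
  next h => rw [h]
  next h => rw [mul_zero, mul_zero]

omit [P.IsCrystallographic] [P.IsReduced] in
lemma cosgnVec_fundCoweight (b : P.Base) (i : b.support) :
    cosgnVec P (fundCoweight b i) = sgnVec P (fundWeight b i) := by
  rw [← cosgnVec_phi, phi_fundWeight]
  funext l
  rw [cosgnVec, cosgnVec, map_smul, smul_eq_mul, sign_mul,
    sign_pos (half_pos (rootForm_root_pos (i : ι))), one_mul]

omit [P.IsCrystallographic] [P.IsReduced] in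
lemma corr_unique {w : M} {x x' : N} (h : Corr P w x) (h' : Corr P w x') : x = x' := by
  obtain ⟨b, i, rfl, rfl⟩ := h
  obtain ⟨b', k, hw, rfl⟩ := h'
  set c := P.RootForm (P.root i) (P.root i) / 2
  set c' := P.RootForm (P.root k) (P.root k) / 2
  have hc : 0 < c := half_pos (rootForm_root_pos (i : ι))
  have hc' : 0 < c' := half_pos (rootForm_root_pos (k : ι))
  have e : c • fundCoweight b i = c' • fundCoweight b' k := by
    rw [← phi_fundWeight, ← phi_fundWeight, hw]
  obtain ⟨p, hp⟩ := exists_int_root'_fundCoweight b' k i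
  obtain ⟨q, hq⟩ := exists_int_root'_fundCoweight b i k
  have e1 := congrArg (P.root' i) e
  have e2 := congrArg (P.root' k) e
  rw [map_smul, map_smul, root'_fundCoweight_self, hp, smul_eq_mul, smul_eq_mul, mul_one] at e1
  rw [map_smul, map_smul, root'_fundCoweight_self, hq, smul_eq_mul, smul_eq_mul, mul_one] at e2
  have hpq : p * q = 1 := by
    have : c * ((p : R) * q - 1) = 0 := by linear_combination (p : R) * e2 - e1
    exact_mod_cast sub_eq_zero.1 ((mul_eq_zero.1 this).resolve_left hc.ne')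
  have hp1 : p = 1 := by
    rcases Int.mul_eq_one_iff_eq_one_or_neg_one.1 hpq with ⟨h, -⟩ | ⟨h, -⟩
    · exact h
    · exfalso
      rw [h] at e1
      push_cast at e1
      linarith
  rw [hp1, Int.cast_one, mul_one] at e1
  rw [← e1] at e
  exact (smul_right_injective N hc.ne') e

omit [P.IsCrystallographic] [P.IsReduced] in
lemma dualCorners_eq (F : Facet P) :
    F.dualCorners = {y : N | ∃ m ∈ F.corners, Corr P m y} := by
  ext y
  constructor
  · rintro ⟨⟨b, i, rfl⟩, hy⟩
    refine ⟨fundWeight (P := P) b.flip i, ⟨⟨_, _, rfl⟩, fun l => ?_⟩,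
      b.flip, i, rfl, rfl⟩
    rw [← cosgnVec_fundCoweight (P := P) b.flip i]
    exact hy l
  · rintro ⟨m, ⟨-, hm⟩, b, i, rfl, rfl⟩
    refine ⟨⟨b.flip, i, rfl⟩, fun l => ?_⟩
    rw [cosgnVec_fundCoweight]
    exact hm l

omit [P.IsCrystallographic] [P.IsReduced] in
lemma corners_eq_setOf_parab (F : Facet P) :
    F.corners = {m : M | m ∈ fundWeights P ∧
      ∀ y : N, Corr P m y → ∀ i ∈ F.parab, 0 ≤ P.root' i y} := by
  ext m
  refine and_congr_right fun hm => ?_
  obtain ⟨b, k, rfl⟩ := hm
  have hy : ∀ y, Corr P (fundWeight b k) y → ∀ i,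
      SignType.sign (P.root' i y) = sgnVec P (fundWeight b k) i := fun y hy i => by
    rw [corr_unique hy ⟨b, k, rfl, rfl⟩]
    exact congrFun (cosgnVec_fundCoweight b k) i
  constructor
  · intro hw y hyc i hi
    rw [← sign_nonneg_iff, hy y hyc]
    rcases hw i with h | h
    · exact h.ge
    · rw [h]
      have hi' : F.sgn i ≠ -1 := hi
      revert hi'
      cases F.sgn i <;> decide
  · intro h i
    obtain ⟨η, hη⟩ := carrier_nonempty F
    have hneg : F.sgn (P.reflectionPerm i i) = - F.sgn i := by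
      rw [← show sgnVec P η = F.sgn from hη, sgnVec, sgnVec, coroot'_neg, Left.sign_neg]
    have key : ∀ l ∈ F.parab, 0 ≤ sgnVec P (fundWeight b k) l := fun l hl => by
      rw [← hy _ ⟨b, k, rfl, rfl⟩]
      exact sign_nonneg_iff.2 (h _ ⟨b, k, rfl, rfl⟩ l hl)
    have kneg : sgnVec P (fundWeight b k) (P.reflectionPerm i i) =
        - sgnVec P (fundWeight b k) i := by
      rw [sgnVec, sgnVec, coroot'_neg, Left.sign_neg]
    have k1 := key i
    have k2 := key (P.reflectionPerm i i)
    rw [kneg] at k2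
    simp only [Facet.parab, Set.mem_setOf_eq, hneg] at k1 k2
    revert k1 k2
    cases sgnVec P (fundWeight b k) i <;> cases F.sgn i <;> decide

end RootChLib

end
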