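import Groth.Prelude.Def_RootCh
import Mathlib.LinearAlgebra.RootSystem.BaseExists
import Mathlib.LinearAlgebra.RootSystem.Finite.Nondegenerate
import Mathlib.Data.Sign.Basic

/-! Invariant form, polarization and sign vectors. -/

noncomputable section

namespace RootChLib

open Module RootPairing RootCh

variable {ι R M N : Type*} [Field R] [LinearOrder R] [IsStrictOrderedRing R]
  [AddCommGroup M] [Module R M] [AddCommGroup N] [Module R N] [Fintype ι]
  {P : RootPairing ι R M N}

lemma root'_neg (i : ι) (y : N) : P.root' (P.reflectionPerm i i) y = - P.root' i y := by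
  simp [RootPairing.root']

lemma coroot'_neg (i : ι) (ξ : M) : P.coroot' (P.reflectionPerm i i) ξ = - P.coroot' i ξ := by
  simp [RootPairing.coroot']

lemma coroot'_root_self (i : ι) : P.coroot' i (P.root i) = 2 :=
  P.root_coroot_two i

variable [P.IsRootSystem]

variable (P) in
/-- The polarization as an equivalence. -/
def phi : M ≃ₗ[R] N := P.PolarizationEquiv

lemma phi_apply (ξ : M) : phi P ξ = P.Polarization ξ := P.polarizationEquiv_apply ξ

lemma toLinearMap_phi (ξ η : M) : P.toLinearMap η (phi P ξ) = P.RootForm ξ η := by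
  rw [phi_apply, P.toLinearMap_apply_apply_Polarization]

lemma root'_phi (i : ι) (ξ : M) : P.root' i (phi P ξ) = P.RootForm ξ (P.root i) :=
  toLinearMap_phi ξ (P.root i)

lemma rootForm_comm (ξ η : M) : P.RootForm ξ η = P.RootForm η ξ :=
  P.rootForm_symmetric.eq ξ η

lemma rootForm_pos {ξ : M} (h : ξ ≠ 0) : 0 < P.RootForm ξ ξ :=
  P.rootForm_pos_of_ne_zero (by simp) h

lemma rootForm_root_pos (i : ι) : 0 < P.RootForm (P.root i) (P.root i) :=
  rootForm_pos (P.ne_zero i)

lemma rootForm_root_mul_coroot' (i : ι) (ξ : M) :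
    P.RootForm (P.root i) (P.root i) * P.coroot' i ξ = 2 * P.RootForm ξ (P.root i) := by
  have h := congrArg (P.toLinearMap ξ) (P.rootForm_self_smul_coroot i)
  rw [map_smul, map_nsmul, P.toLinearMap_apply_apply_Polarization, smul_eq_mul, nsmul_eq_mul,
    rootForm_comm (P.root i) ξ] at h
  simpa using h

lemma root'_phi_eq (i : ι) (ξ : M) :
    P.root' i (phi P ξ) = P.RootForm (P.root i) (P.root i) / 2 * P.coroot' i ξ := by
  rw [root'_phi]
  linear_combination (-1 / 2 : R) * rootForm_root_mul_coroot' (P := P) i ξ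

lemma sign_root'_phi (i : ι) (ξ : M) :
    SignType.sign (P.root' i (phi P ξ)) = SignType.sign (P.coroot' i ξ) := by
  rw [root'_phi_eq, sign_mul, sign_pos (half_pos (rootForm_root_pos i)), one_mul]

lemma cosgnVec_phi (ξ : M) : cosgnVec P (phi P ξ) = sgnVec P ξ :=
  funext fun i => sign_root'_phi i ξ

lemma cosgnVec_eq (y : N) : cosgnVec P y = sgnVec P ((phi P).symm y) := by
  rw [← cosgnVec_phi, LinearEquiv.apply_symm_apply]

lemma dualCarrier_eq (F : Facet P) : F.dualCarrier = phi P '' F.carrier := by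
  ext y
  constructor
  · intro (h : cosgnVec P y = F.sgn)
    exact ⟨(phi P).symm y, by rwa [Facet.carrier, Set.mem_setOf_eq, ← cosgnVec_eq],
      LinearEquiv.apply_symm_apply _ _⟩
  · rintro ⟨ξ, hξ, rfl⟩
    show cosgnVec P _ = _
    rw [cosgnVec_phi]; exact hξ

lemma mem_dualClosure_iff (F : Facet P) (y : N) :
    y ∈ F.dualClosure ↔ (phi P).symm y ∈ F.closure := by
  simp only [Facet.dualClosure, Facet.closure, Set.mem_setOf_eq, cosgnVec_eq]

lemma eq_of_forall_coroot' {ξ η : M} (h : ∀ i, P.coroot' i ξ = P.coroot' i η) : ξ = η := by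
  rw [← sub_eq_zero]
  by_contra hne
  have := rootForm_pos (P := P) hne
  rw [P.rootForm_apply_apply] at this
  have h' : ∀ i, P.coroot' i (ξ - η) = 0 := fun i => by rw [map_sub, h i, sub_self]
  simp only [h', mul_zero, Finset.sum_const_zero, lt_self_iff_false] at this

end RootChLib

end
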