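import Mathlib.Analysis.Convex.Combination
import Mathlib.LinearAlgebra.BilinearForm.Properties
import Mathlib.LinearAlgebra.Dual.Lemmas
import Mathlib.Algebra.Order.Field.Basic
import Mathlib.Tactic.Linarith
import Mathlib.Tactic.Module
import Mathlib.Tactic.LinearCombination

/-! Nearest points of polytopes over a linearly ordered field. -/

noncomputable section

namespace RootChLib

open Finset Module

variable {R V : Type*} [Field R] [LinearOrder R] [IsStrictOrderedRing R]
  [AddCommGroup V] [Module R V] (B : LinearMap.BilinForm R V)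

lemma bilin_add_smul_self (hs : ∀ y z, B y z = B z y) (p v : V) (t : R) :
    B (p + t • v) (p + t • v) = B p p + 2 * t * B p v + t ^ 2 * B v v := by
  simp only [map_add, map_smul, LinearMap.add_apply, LinearMap.smul_apply, smul_eq_mul]
  rw [hs v p]; ring

/-- The projection of the origin to the affine span of a finite set. -/
lemma exists_affine_proj [DecidableEq V] (hp : ∀ y, y ≠ 0 → 0 < B y y) {T : Finset V}
    (hT : T.Nonempty) :
    ∃ q : V → R, ∑ a ∈ T, q a = 1 ∧
      ∀ a ∈ T, ∀ c ∈ T, B (∑ e ∈ T, q e • e) (a - c) = 0 := by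
  obtain ⟨a₀, ha₀⟩ := hT
  let D : Submodule R V := Submodule.span R (Set.range fun a : T => (a : V) - a₀)
  have : FiniteDimensional R D := FiniteDimensional.span_of_finite R (Set.finite_range _)
  let L : D →ₗ[R] Module.Dual R D := B.compl₁₂ D.subtype D.subtype
  have hL : Function.Injective L := by
    rw [injective_iff_map_eq_zero]
    intro v hv
    by_contra hne
    have := hp v (fun h => hne (Subtype.ext h))
    rw [show B v v = L v v from rfl, hv] at this
    exact lt_irrefl _ this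
  have hsurj : Function.Surjective L :=
    (LinearMap.injective_iff_surjective_of_finrank_eq_finrank
      Subspace.dual_finrank_eq.symm).1 hL
  obtain ⟨v, hv⟩ := hsurj (-(B a₀).comp D.subtype)
  obtain ⟨c, hc⟩ := (Submodule.mem_span_range_iff_exists_fun R).1 v.2
  let c' : V → R := fun a => if h : a ∈ T then c ⟨a, h⟩ else 0
  have hc' : ∑ a ∈ T, c' a • (a - a₀) = (v : V) := by
    rw [← hc, ← Finset.sum_coe_sort T]
    exact Finset.sum_congr rfl fun a _ => by simp [c']
  let q : V → R := fun a => c' a + if a = a₀ then 1 - ∑ e ∈ T, c' e else 0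
  have hq1 : ∑ a ∈ T, q a = 1 := by
    simp only [q, sum_add_distrib, sum_ite_eq', if_pos ha₀]; ring
  have hq : ∑ e ∈ T, q e • e = a₀ + v := by
    rw [← hc']
    simp only [q, add_smul, ite_smul, zero_smul, sum_add_distrib, sum_ite_eq', if_pos ha₀,
      smul_sub, sum_sub_distrib, ← Finset.sum_smul, sub_smul, one_smul]
    abel
  refine ⟨q, hq1, fun a ha e he => ?_⟩
  have key : ∀ a ∈ T, B (∑ e ∈ T, q e • e) (a - a₀) = 0 := by
    intro a ha
    have hmem : a - a₀ ∈ D := Submodule.subset_span ⟨⟨a, ha⟩, rfl⟩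
    have h : B v (a - a₀) = -(B a₀ (a - a₀)) := LinearMap.congr_fun hv ⟨a - a₀, hmem⟩
    rw [hq, map_add, LinearMap.add_apply, h, add_neg_cancel]
  rw [← sub_sub_sub_cancel_right a e a₀, map_sub, key a ha, key e he, sub_zero]

/-- Existence of a point of least norm in a polytope. -/
lemma exists_min_convexHull (hs : ∀ y z, B y z = B z y) (hp : ∀ y, y ≠ 0 → 0 < B y y)
    {T : Finset V} (hT : T.Nonempty) :
    ∃ y ∈ convexHull R (T : Set V), ∀ z ∈ convexHull R (T : Set V), B y y ≤ B z z := by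
  classical
  have hnn : ∀ y, 0 ≤ B y y := fun y => by
    rcases eq_or_ne y 0 with rfl | h
    · simp
    · exact (hp y h).le
  induction hn : T.card using Nat.strong_induction_on generalizing T with
  | _ n ih =>
  obtain ⟨q, hq1, hq⟩ := exists_affine_proj B hp hT
  set p := ∑ e ∈ T, q e • e
  have horth : ∀ w : V → R, ∑ a ∈ T, w a = 1 → B p (∑ a ∈ T, w a • a - p) = 0 := by
    intro w hw
    obtain ⟨a₀, ha₀⟩ := hT
    have : ∑ a ∈ T, w a • a - p = ∑ a ∈ T, (w a - q a) • (a - a₀) := by
      simp only [smul_sub, sum_sub_distrib, ← Finset.sum_smul, sub_smul, hw, hq1]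
      simp [p]
    rw [this, map_sum]
    exact sum_eq_zero fun a ha => by rw [map_smul, hq a ha a₀ ha₀, smul_zero]
  rw [Finset.convexHull_eq]
  by_cases hneg : ∀ a ∈ T, 0 ≤ q a
  · refine ⟨p, ⟨q, hneg, hq1, Finset.centerMass_eq_of_sum_1 _ _ hq1⟩, ?_⟩
    rintro z ⟨w, hw0, hw1, rfl⟩
    rw [Finset.centerMass_eq_of_sum_1 _ _ hw1]
    have := horth w hw1
    have h2 := bilin_add_smul_self B hs p (∑ a ∈ T, w a • id a - p) 1
    rw [one_smul, add_sub_cancel] at h2
    simp only [id_eq] at h2 ⊢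
    rw [h2, this]
    nlinarith [hnn (∑ a ∈ T, w a • a - p)]
  push Not at hneg
  obtain ⟨b, hbT, hb⟩ := hneg
  -- faces
  have hT' : ∀ a ∈ T, (T.erase a).Nonempty := by
    intro a ha
    by_contra h
    rw [Finset.not_nonempty_iff_eq_empty] at h
    have hs : T = {a} := by rw [← Finset.insert_erase ha, h]; rfl
    rw [hs, sum_singleton] at hq1
    rw [hs, Finset.mem_singleton] at hbT
    rw [hbT, hq1] at hb
    linarith
  choose! f hf hfmin using fun a (ha : a ∈ T) =>
    ih (T.erase a).card (by rw [← hn]; exact card_lt_card (erase_ssubset ha)) (hT' a ha) rfl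
  obtain ⟨a₁, ha₁, hmin⟩ := T.exists_min_image (fun a => B (f a) (f a)) hT
  refine ⟨f a₁, ?_, ?_⟩
  · rw [← Finset.convexHull_eq]
    exact convexHull_mono (coe_subset.2 (erase_subset _ _)) (hf a₁ ha₁)
  rintro z ⟨w, hw0, hw1, rfl⟩
  rw [Finset.centerMass_eq_of_sum_1 _ _ hw1]
  simp only [id_eq]
  let Ng := T.filter fun a => q a < 0
  obtain ⟨a₂, ha₂, ht⟩ := Ng.exists_min_image (fun a => w a / (w a - q a))
    ⟨b, mem_filter.2 ⟨hbT, hb⟩⟩
  obtain ⟨ha₂T, hqa₂⟩ := mem_filter.1 ha₂
  set t := w a₂ / (w a₂ - q a₂)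
  have hden : 0 < w a₂ - q a₂ := by linarith [hw0 a₂ ha₂T]
  have ht0 : 0 ≤ t := div_nonneg (hw0 a₂ ha₂T) hden.le
  have ht1 : t ≤ 1 := by rw [div_le_one hden]; linarith
  let u : V → R := fun a => w a + t * (q a - w a)
  have hu0 : ∀ a ∈ T, 0 ≤ u a := by
    intro a ha
    by_cases hqa : q a < 0
    · have h := ht a (mem_filter.2 ⟨ha, hqa⟩)
      rw [le_div_iff₀ (by linarith [hw0 a ha] : 0 < w a - q a)] at h
      simp only [u]; linarith
    · simp only [u]
      nlinarith [hw0 a ha]
  have hua : u a₂ = 0 := by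
    simp only [u, t]; field_simp; ring
  have hu1 : ∑ a ∈ T, u a = 1 := by
    simp only [u, sum_add_distrib, ← Finset.mul_sum, sum_sub_distrib, hw1, hq1]; ring
  have hmem : ∑ a ∈ T, u a • a ∈ convexHull R ((T.erase a₂ : Finset V) : Set V) := by
    rw [Finset.convexHull_eq]
    have h1 : ∑ a ∈ T.erase a₂, u a = 1 := by rw [sum_erase _ hua, hu1]
    refine ⟨u, fun a ha => hu0 a (erase_subset _ _ ha), h1, ?_⟩
    rw [Finset.centerMass_eq_of_sum_1 _ _ h1, sum_erase _ (by simp [hua])]
    rfl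
  refine ((hmin a₂ ha₂T).trans (hfmin a₂ ha₂T _ hmem)).trans ?_
  set y := ∑ a ∈ T, w a • a
  have hu : ∑ a ∈ T, u a • a = p + (1 - t) • (y - p) := by
    simp only [u, add_smul, sum_add_distrib, mul_smul, sub_smul, ← Finset.smul_sum,
      sum_sub_distrib]
    module
  have h2 := bilin_add_smul_self B hs p (y - p) 1
  rw [one_smul, add_sub_cancel, horth w hw1] at h2
  rw [hu, bilin_add_smul_self B hs, horth w hw1, h2]
  have := mul_le_mul_of_nonneg_right (pow_le_one₀ (by linarith) (by linarith) : (1 - t) ^ 2 ≤ 1)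
    (hnn (y - p))
  linarith

lemma min_variational (hs : ∀ y z, B y z = B z y) (hp : ∀ y, y ≠ 0 → 0 < B y y) {K : Set V}
    (hK : Convex R K) {y : V} (hy : y ∈ K) (hmin : ∀ z ∈ K, B y y ≤ B z z) {z : V} (hz : z ∈ K) :
    0 ≤ B y (z - y) := by
  by_contra h
  push Not at h
  set v := z - y
  have hv : v ≠ 0 := fun e => by rw [e, map_zero] at h; exact lt_irrefl _ h
  set t := min 1 (-(B y v) / B v v)
  have ht0 : 0 < t := lt_min one_pos (div_pos (neg_pos.2 h) (hp v hv))
  have ht : t * B v v ≤ -(B y v) := (le_div_iff₀ (hp v hv)).1 (min_le_right _ _)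
  have hmem := hK.add_smul_sub_mem hy hz ⟨ht0.le, min_le_left _ _⟩
  have := hmin _ hmem
  rw [bilin_add_smul_self B hs] at this
  nlinarith

/-- Separation of a point from a polytope. -/
lemma exists_separation (hs : ∀ y z, B y z = B z y) (hp : ∀ y, y ≠ 0 → 0 < B y y)
    {T : Finset V} (hT : T.Nonempty) {y : V} (hy : y ∉ convexHull R (T : Set V)) :
    ∃ v : V, ∀ a ∈ T, B v y < B v a := by
  classical
  obtain ⟨y₀, hy₀, hmin⟩ := exists_min_convexHull B hs hp (hT.image (fun a => a - y))
  have hne : y₀ ≠ 0 := by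
    rintro rfl
    rw [Finset.convexHull_eq] at hy₀
    obtain ⟨w, hw0, hw1, hw⟩ := hy₀
    rw [Finset.centerMass_eq_of_sum_1 _ _ hw1, sum_image fun a _ b _ h => sub_left_injective h]
      at hw
    rw [sum_image fun a _ b _ h => sub_left_injective h] at hw1
    apply hy
    rw [Finset.convexHull_eq]
    refine ⟨fun a => w (a - y), fun a ha => hw0 _ (mem_image_of_mem _ ha), hw1, ?_⟩
    rw [Finset.centerMass_eq_of_sum_1 _ _ hw1]
    simp only [id_eq, smul_sub, sum_sub_distrib, ← Finset.sum_smul, hw1, one_smul] at hw ⊢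
    exact sub_eq_zero.1 hw
  refine ⟨y₀, fun a ha => ?_⟩
  have h := min_variational B hs hp (convex_convexHull R _) hy₀ hmin
    (subset_convexHull R _ (mem_coe.2 (mem_image_of_mem _ ha)))
  rw [map_sub, map_sub] at h
  linarith [hp y₀ hne]

end RootChLib

end
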