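import Groth.Agent.RootChLib.Facet
import Groth.Prelude.Def_RootCh2

/-! Parabolic sets of roots and elementary sets. -/

noncomputable section

namespace RootChLib

open Module RootPairing RootCh Set

variable {ι R M N : Type*} [Field R] [LinearOrder R] [IsStrictOrderedRing R]
  [AddCommGroup M] [Module R M] [AddCommGroup N] [Module R N] [Fintype ι]
  {P : RootPairing ι R M N} [P.IsRootSystem]

omit [Fintype ι] [P.IsRootSystem] in
lemma root_reflectionPerm_eq (i j : ι) :
    P.root (P.reflectionPerm i j) = P.root j - P.pairing j i • P.root i := by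
  rw [P.root_reflectionPerm, P.reflection_apply_root]

omit [Fintype ι] [P.IsRootSystem] in
lemma coroot'_root (i j : ι) : P.coroot' i (P.root j) = P.pairing j i :=
  P.root_coroot_eq_pairing j i

omit [Fintype ι] [P.IsRootSystem] in
lemma pairing_reflect (a b : ι) :
    P.pairing (P.reflectionPerm a b) a = - P.pairing b a := by
  rw [← coroot'_root, root_reflectionPerm_eq, map_sub, map_smul, coroot'_root, coroot'_root,
    P.pairing_same, smul_eq_mul]
  ring

lemma sgn_neg (F : Facet P) (i : ι) : F.sgn (P.reflectionPerm i i) = - F.sgn i := by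
  obtain ⟨η, hη⟩ := carrier_nonempty F
  rw [← show sgnVec P η = F.sgn from hη, sgnVec, sgnVec, coroot'_neg, Left.sign_neg]

lemma mem_parab_iff {F : Facet P} {ξ : M} (hξ : ξ ∈ F.carrier) (i : ι) :
    i ∈ F.parab ↔ 0 ≤ P.coroot' i ξ := by
  rw [← sign_nonneg_iff, show SignType.sign (P.coroot' i ξ) = F.sgn i from congrFun hξ i]
  show F.sgn i ≠ -1 ↔ _
  cases F.sgn i <;> decide

lemma le_iff_parab_subset (F G : Facet P) : F ≤ G ↔ F.parab ⊆ G.parab := by
  rw [Facet.le_def]
  constructor
  · intro h i hi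
    have hi' : F.sgn i ≠ -1 := hi
    show G.sgn i ≠ -1
    have := h i
    revert this hi'
    cases F.sgn i <;> cases G.sgn i <;> decide
  · intro h i
    have h1 : F.sgn i ≠ -1 → G.sgn i ≠ -1 := fun hi => h hi
    have h2 : F.sgn (P.reflectionPerm i i) ≠ -1 → G.sgn (P.reflectionPerm i i) ≠ -1 :=
      fun hi => h hi
    rw [sgn_neg, sgn_neg] at h2
    revert h1 h2
    cases F.sgn i <;> cases G.sgn i <;> decide

lemma eq_of_parab_eq {F G : Facet P} (h : F.parab = G.parab) : F = G :=
  le_antisymm ((le_iff_parab_subset F G).2 h.subset) ((le_iff_parab_subset G F).2 h.superset)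

lemma isParabolicSubset_parab (F : Facet P) : IsParabolicSubset P F.parab := by
  obtain ⟨η, hη⟩ := carrier_nonempty F
  refine ⟨fun i j k hi hj hk => ?_, fun i => ?_⟩
  · rw [mem_parab_iff hη] at hi hj ⊢
    have h : ∀ l, 0 ≤ P.coroot' l η ↔ 0 ≤ P.RootForm η (P.root l) := fun l => by
      rw [← root'_phi, root'_phi_eq, mul_nonneg_iff_of_pos_left (half_pos (rootForm_root_pos l))]
    rw [h] at hi hj ⊢
    rw [hk, map_add]
    exact add_nonneg hi hj
  · rw [mem_parab_iff hη, mem_parab_iff hη, coroot'_neg, neg_nonneg]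
    exact le_total _ _

variable [P.IsCrystallographic]

omit [P.IsRootSystem] in
lemma reflect_mem {S : Set ι} (hS : IsParabolicSubset P S) {a : ι} (ha : a ∈ S) :
    ∀ {b : ι}, b ∈ S → P.pairingIn ℤ b a < 0 → P.reflectionPerm a b ∈ S := by
  suffices h : ∀ (k : ℕ) (b : ι), b ∈ S → P.pairingIn ℤ b a = -(k : ℤ) → 0 < k →
      P.reflectionPerm a b ∈ S by
    intro b hb hneg
    exact h (-P.pairingIn ℤ b a).toNat b hb (by omega) (by omega)
  intro k
  induction k using Nat.strong_induction_on with
  | _ k ih =>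
  intro b hb hk hk0
  have hR : P.pairing b a = -(k : R) := by
    rw [← P.algebraMap_pairingIn ℤ, hk]; simp
  by_cases hneg : P.root b = - P.root a
  · have : P.reflectionPerm a b = a := P.root.injective (by
      rw [root_reflectionPerm_eq, hneg]
      have h2 : P.pairing b a = -2 := by
        rw [← coroot'_root, hneg, map_neg, coroot'_root, P.pairing_same]
      rw [h2]; module)
    rw [this]; exact ha
  obtain ⟨c, hc⟩ := P.root_add_root_mem_of_pairingIn_neg (i := b) (j := a) (by omega) hneg
  have hcS : c ∈ S := hS.1 b a c hb ha hc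
  have hcp : P.pairing c a = 2 - (k : R) := by
    rw [← coroot'_root, hc, map_add, coroot'_root, coroot'_root, P.pairing_same, hR]; ring
  have hcp' : P.pairingIn ℤ c a = 2 - (k : ℤ) := by
    apply Int.cast_injective (α := R)
    rw [show ((P.pairingIn ℤ c a : ℤ) : R) = P.pairing c a from P.algebraMap_pairingIn ℤ c a, hcp]
    simp
  have hsum : P.root (P.reflectionPerm a b) = P.root (P.reflectionPerm a c) + P.root a := by
    rw [root_reflectionPerm_eq, root_reflectionPerm_eq, hcp, hR, hc]; module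
  rcases lt_trichotomy k 2 with h | h | h
  · obtain rfl : k = 1 := by omega
    have : P.reflectionPerm a b = c := P.root.injective (by
      rw [root_reflectionPerm_eq, hR, hc]; module)
    rw [this]; exact hcS
  · have : P.reflectionPerm a c = c := P.root.injective (by
      rw [root_reflectionPerm_eq, hcp, h]; simp)
    exact hS.1 _ _ _ hcS ha (by rw [hsum, this])
  · have := ih (k - 2) (by omega) c hcS (by omega) (by omega)
    exact hS.1 _ _ _ this ha hsum

omit [P.IsRootSystem] in
lemma coroot'_sum_nonneg {S : Set ι} (hS : IsParabolicSubset P S) {a : ι} (ha : a ∈ S) :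
    0 ≤ P.coroot' a (∑ i ∈ S.toFinite.toFinset, P.root i) ∧
      (P.reflectionPerm a a ∉ S → 0 < P.coroot' a (∑ i ∈ S.toFinite.toFinset, P.root i)) := by
  classical
  rw [map_sum]
  simp only [coroot'_root]
  set T := S.toFinite.toFinset
  set f := fun b => P.pairing b a
  let Ng := T.filter fun b => f b < 0
  let Po := T.filter fun b => ¬ f b < 0
  let U := Ng.image (P.reflectionPerm a)
  have hf : ∀ b, f (P.reflectionPerm a b) = - f b := fun b =>
    pairing_reflect a b
  have hU : U ⊆ Po := by
    intro c hc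
    obtain ⟨b, hb, rfl⟩ := Finset.mem_image.1 hc
    obtain ⟨hb, hbn⟩ := Finset.mem_filter.1 hb
    refine Finset.mem_filter.2 ⟨?_, by rw [hf]; exact not_lt.2 (neg_nonneg.2 hbn.le)⟩
    rw [Set.Finite.mem_toFinset] at hb ⊢
    refine reflect_mem hS ha hb ?_
    have : ((P.pairingIn ℤ b a : ℤ) : R) < 0 := (P.algebraMap_pairingIn ℤ b a).trans_lt hbn
    exact_mod_cast this
  have hsum : ∑ b ∈ T, f b = ∑ b ∈ Po \ U, f b := by
    rw [← Finset.sum_filter_add_sum_filter_not T (fun b => f b < 0) f]
    show ∑ b ∈ Ng, f b + ∑ b ∈ Po, f b = _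
    rw [← Finset.sum_sdiff hU, Finset.sum_image fun x _ y _ h => (P.reflectionPerm a).injective h]
    simp only [hf, Finset.sum_neg_distrib]
    ring
  rw [hsum]
  have hnn : ∀ b ∈ Po \ U, 0 ≤ f b := fun b hb =>
    not_lt.1 (Finset.mem_filter.1 (Finset.mem_sdiff.1 hb).1).2
  refine ⟨Finset.sum_nonneg hnn, fun hna => Finset.sum_pos' hnn ⟨a, ?_, ?_⟩⟩
  · refine Finset.mem_sdiff.2 ⟨Finset.mem_filter.2 ⟨S.toFinite.mem_toFinset.2 ha,
      by simp [f]⟩, fun h => ?_⟩
    obtain ⟨b, hb, hba⟩ := Finset.mem_image.1 h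
    obtain rfl : b = P.reflectionPerm a a := by
      have := congrArg (P.reflectionPerm a) hba
      rwa [P.reflectionPerm_self] at this
    exact hna (S.toFinite.mem_toFinset.1 (Finset.mem_filter.1 hb).1)
  · simp [f]

lemma parab_ofVec_sum {S : Set ι} (hS : IsParabolicSubset P S) :
    (Facet.ofVec P (∑ i ∈ S.toFinite.toFinset, P.root i)).parab = S := by
  ext i
  rw [mem_parab_iff (mem_carrier_ofVec _)]
  refine ⟨fun h => by_contra fun hi => ?_, fun h => (coroot'_sum_nonneg hS h).1⟩
  have h' := (hS.2 i).resolve_left hi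
  have := (coroot'_sum_nonneg hS h').2 (by rwa [neg_neg_index])
  rw [coroot'_neg] at this
  linarith

lemma sum_parab_mem_carrier (F : Facet P) :
    (∑ i ∈ F.parab.toFinite.toFinset, P.root i) ∈ F.carrier := by
  show sgnVec P _ = F.sgn
  exact congrArg Facet.sgn (eq_of_parab_eq (parab_ofVec_sum (isParabolicSubset_parab F)))

lemma existsUnique_parab_iff (S : Set ι) :
    IsParabolicSubset P S ↔ ∃! F : Facet P, F.parab = S := by
  refine ⟨fun hS => ⟨_, parab_ofVec_sum hS, fun G hG => ?_⟩, ?_⟩
  · exact eq_of_parab_eq (hG.trans (parab_ofVec_sum hS).symm)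
  · rintro ⟨F, rfl, -⟩; exact isParabolicSubset_parab F

variable [P.IsReduced]

lemma sum_corners_mem_carrier (F : Facet P) (hf : F.corners.Finite) :
    ∑ m ∈ hf.toFinset, m ∈ F.carrier := by
  classical
  obtain ⟨b, hb⟩ := cham_nonempty F
  have h : hf.toFinset = (Finset.univ.filter fun j : b.support => F.sgn j ≠ 0).image
      (fundWeight b) := by
    ext m; simp [corners_eq hb]
  rw [h, Finset.sum_image fun x _ y _ h => fundWeight_injective b h, Finset.sum_filter]
  have := mem_carrier_weight_sum hb (fun j => if F.sgn j ≠ 0 then 1 else 0)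
    (fun j hj => by simp [hj]) (fun j hj => by simp [hj])
  simpa using this

lemma corners_finite (F : Facet P) : F.corners.Finite := by
  obtain ⟨b, hb⟩ := cham_nonempty F
  rw [corners_eq hb]
  exact Set.toFinite _

lemma eq_of_corners_eq {F G : Facet P} (h : F.corners = G.corners) : F = G := by
  have h1 := sum_corners_mem_carrier F (corners_finite F)
  have h2 := sum_corners_mem_carrier G (corners_finite G)
  have : (corners_finite F).toFinset = (corners_finite G).toFinset := by ext; simp [h]
  rw [this] at h1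
  exact Facet.ext (h1.symm.trans h2)

omit [P.IsCrystallographic] [P.IsReduced] in
lemma root'_fundCoweight_eq_cf (b : P.Base) (i : ι) (l : b.support) :
    P.root' i (fundCoweight b l) = cf b i l := by
  classical
  rw [root'_eq_sum_cf b, Finset.sum_eq_single l]
  · rw [root'_fundCoweight_self, mul_one]
  · intro j _ hj; rw [root'_fundCoweight, if_neg hj, mul_zero]
  · simp

omit [P.IsCrystallographic] [P.IsReduced] in
lemma mem_Psi_iff {F : Facet P} {b : P.Base} (hb : b ∈ F.cham) (j : b.support) (i : ι) :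
    i ∈ F.Psi (fundWeight b j) ↔
      cf b i j = 1 ∧ ∀ l : b.support, F.sgn l ≠ 0 → l ≠ j → cf b i l = 0 := by
  constructor
  · rintro ⟨h1, h2⟩
    refine ⟨?_, fun l hl hlj => ?_⟩
    · rw [← root'_fundCoweight_eq_cf]; exact h1 _ ⟨b, j, rfl, rfl⟩
    · rw [← root'_fundCoweight_eq_cf]
      exact h2 _ ((fundWeight_mem_corners_iff hb l).2 hl)
        (fun e => hlj (fundWeight_injective b e)) _ ⟨b, l, rfl, rfl⟩
  · rintro ⟨h1, h2⟩
    refine ⟨fun x hx => ?_, fun w hw hne x hx => ?_⟩
    · rw [corr_unique hx ⟨b, j, rfl, rfl⟩, root'_fundCoweight_eq_cf, h1]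
    · obtain ⟨l, hl, rfl⟩ := (corners_eq hb).subset hw
      rw [corr_unique hx ⟨b, l, rfl, rfl⟩, root'_fundCoweight_eq_cf]
      exact h2 l hl fun e => hne (e ▸ rfl)

omit [P.IsCrystallographic] [P.IsReduced] in
lemma cf_reflect [DecidableEq ι] (b : P.Base) (k l : b.support) (i : ι) (h : l ≠ k) :
    cf b (P.reflectionPerm k i) l = cf b i l := by
  rw [← root'_fundCoweight_eq_cf, ← root'_fundCoweight_eq_cf, RootPairing.root',
    root_reflectionPerm_eq, map_sub, map_smul, LinearMap.sub_apply, LinearMap.smul_apply]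
  show _ - _ • P.root' k (fundCoweight b l) = _
  rw [root'_fundCoweight, if_neg (Ne.symm h), smul_zero, sub_zero]

omit [P.IsCrystallographic] [P.IsReduced] in
lemma coroot'_sum_Psi {F : Facet P} {b : P.Base} (hb : b ∈ F.cham) (j k : b.support)
    (hj : F.sgn j ≠ 0) (hk : F.sgn k = 0) :
    P.coroot' k (∑ i ∈ (F.Psi (fundWeight b j)).toFinite.toFinset, P.root i) = 0 := by
  classical
  rw [map_sum]
  simp only [coroot'_root]
  set T := (F.Psi (fundWeight b j)).toFinite.toFinset
  have hjk : j ≠ k := fun e => hj (e ▸ hk)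
  have hmem : ∀ i ∈ T, P.reflectionPerm k i ∈ T := by
    intro i hi
    rw [Set.Finite.mem_toFinset, mem_Psi_iff hb] at hi ⊢
    refine ⟨by rw [cf_reflect b k j i hjk]; exact hi.1, fun l hl hlj => ?_⟩
    rw [cf_reflect b k l i (fun e => hl (e ▸ hk))]
    exact hi.2 l hl hlj
  have h : ∑ i ∈ T, P.pairing i (k : ι) = -∑ i ∈ T, P.pairing i (k : ι) := by
    rw [← Finset.sum_neg_distrib]
    refine Finset.sum_nbij' (P.reflectionPerm k) (P.reflectionPerm k) hmem hmem
      (fun i _ => P.reflectionPerm_self k i) (fun i _ => P.reflectionPerm_self k i) fun i _ => ?_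
    rw [pairing_reflect, neg_neg]
  linarith

lemma sum_Psi_mem_span (F : Facet P) {m : M} (hm : m ∈ F.corners) :
    (∑ i ∈ (F.Psi m).toFinite.toFinset, P.root i) ∈ Submodule.span R F.corners := by
  obtain ⟨b, hb⟩ := cham_nonempty F
  obtain ⟨j, hj, rfl⟩ := (corners_eq hb).subset hm
  rw [weight_expansion b (∑ i ∈ _, P.root i)]
  refine Submodule.sum_mem _ fun l _ => ?_
  by_cases hl : F.sgn l = 0
  · rw [coroot'_sum_Psi hb j l hj hl, zero_smul]; exact zero_mem _
  · exact Submodule.smul_mem _ _ (Submodule.subset_span ((fundWeight_mem_corners_iff hb l).2 hl))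

end RootChLib

end
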