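import Groth.Agent.RootChLib.Parabolic
import Groth.Agent.RootChLib.MinNorm

/-! Complementary convex solids: key inequality, dual solids, degrees. -/

noncomputable section

namespace RootChLib

open Module RootPairing RootCh Set

variable {ι R M N : Type*} [Field R] [LinearOrder R] [IsStrictOrderedRing R]
  [AddCommGroup M] [Module R M] [AddCommGroup N] [Module R N] [Fintype ι]
  {P : RootPairing ι R M N} [P.IsRootSystem]

instance finite_base : Finite P.Base :=
  Finite.of_injective (fun b : P.Base => b.support) fun b b' h => by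
    cases b; cases b'; simp_all

lemma corootForm_pos (y : N) (hy : y ≠ 0) : 0 < P.CorootForm y y :=
  rootForm_pos (P := P.flip) hy

lemma corootForm_symm (y z : N) : P.CorootForm y z = P.CorootForm z y :=
  rootForm_comm (P := P.flip) y z

lemma mem_convexHull_of_forall {S : Set N} (hS : S.Finite) (hne : S.Nonempty) {y : N}
    (h : ∀ ξ : M, ∃ a ∈ S, P.toLinearMap ξ a ≤ P.toLinearMap ξ y) : y ∈ convexHull R S := by
  by_contra hy
  obtain ⟨v, hv⟩ := exists_separation P.CorootForm corootForm_symm corootForm_pos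
    (T := hS.toFinset) ((Set.Finite.toFinset_nonempty hS).2 hne) (y := y) (by simpa using hy)
  obtain ⟨a, ha, hle⟩ := h (P.CoPolarization v)
  rw [P.toLinearMap_apply_CoPolarization] at hle
  exact absurd (hv a (hS.mem_toFinset.2 ha)) (not_lt.2 hle)

lemma le_of_mem_convexHull {S : Set N} {ξ : M} {c : R}
    (h : ∀ a ∈ S, c ≤ P.toLinearMap ξ a) {y : N} (hy : y ∈ convexHull R S) :
    c ≤ P.toLinearMap ξ y :=
  (convexHull_min (t := {a | c ≤ P.toLinearMap ξ a}) h
    (convex_halfSpace_ge (P.toLinearMap ξ).isLinear c)) hy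

lemma eq_of_mem_convexHull {S : Set N} {ξ : M} {c : R}
    (h : ∀ a ∈ S, P.toLinearMap ξ a = c) {y : N} (hy : y ∈ convexHull R S) :
    P.toLinearMap ξ y = c :=
  (convexHull_min (t := {a | P.toLinearMap ξ a = c}) h
    (convex_hyperplane (P.toLinearMap ξ).isLinear c)) hy

variable [P.IsCrystallographic] [P.IsReduced] {d : P.Base → N}

lemma key_le (hd : IsCCS d) {c : P.Base} {ξ : M} (hξ : ξ ∈ closedChamber c) (b : P.Base) :
    P.toLinearMap ξ (d c) ≤ P.toLinearMap ξ (d b) := by
  classical
  induction hn : (Finset.univ.filter fun i => c.IsPos i ∧ ¬ b.IsPos i).card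
    using Nat.strong_induction_on generalizing b with
  | _ n ih =>
  by_cases hex : ∃ k ∈ b.support, ¬ c.IsPos k
  swap
  · push Not at hex
    have hsub : ∀ i, b.IsPos i → c.IsPos i := fun i hi =>
      hi.induction_on_add hex fun i j k hk hi hj => hi.add (hex j hj) hk
    have : b = c := base_ext fun i => ⟨hsub i, fun hi => by_contra fun h =>
      (neg_isPos_iff c i).1 (hsub _ ((neg_isPos_iff b i).2 h)) hi⟩
    rw [this]
  obtain ⟨k, hk, hkc⟩ := hex
  obtain ⟨b', hb'⟩ := exists_base_reflect b k hk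
  have hkb : b.IsPos k := Base.isPos_of_mem_support hk
  have hcnk : c.IsPos (P.reflectionPerm k k) := (neg_isPos_iff c k).2 hkc
  have hbnk : ¬ b.IsPos (P.reflectionPerm k k) := fun h => (neg_isPos_iff b k).1 h hkb
  have hnk : b'.IsPos (P.reflectionPerm k k) := (hb' _).2 (Or.inr rfl)
  have hdiff : ∀ j, (b.IsPos j ∧ ¬ b'.IsPos j) ↔ j = k := by
    intro j
    rw [hb']
    constructor
    · rintro ⟨h1, h2⟩
      by_contra hne
      exact h2 (Or.inl ⟨h1, hne⟩)
    · rintro rfl
      exact ⟨hkb, fun h => h.elim (fun h => h.2 rfl) (fun h => hbnk (h ▸ hkb))⟩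
  have hlt : (Finset.univ.filter fun i => c.IsPos i ∧ ¬ b'.IsPos i).card < n := by
    rw [← hn]
    refine Finset.card_lt_card ⟨fun i => ?_, fun h => ?_⟩
    · simp only [Finset.mem_filter, Finset.mem_univ, true_and]
      rintro ⟨h1, h2⟩
      refine ⟨h1, fun h3 => ?_⟩
      obtain rfl := (hdiff i).1 ⟨h3, h2⟩
      exact hkc h1
    · have := h (Finset.mem_filter.2 ⟨Finset.mem_univ _, hcnk, hbnk⟩)
      exact (Finset.mem_filter.1 this).2.2 hnk
  refine (ih _ hlt b' rfl).trans ?_
  set k' : b.support := ⟨k, hk⟩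
  have hcorner : ∀ j : b.support, j ≠ k' → fundWeight b j ∈ baseCorners b' := by
    intro j hj
    refine ⟨⟨b, j, rfl⟩, fun i hi => ?_⟩
    rcases (hb' i).1 (Base.isPos_of_mem_support hi) with ⟨h, -⟩ | rfl
    · exact coroot'_nonneg h (fundWeight_mem_closedChamber b j)
    · rw [coroot'_neg, coroot'_fundWeight b j k', if_neg (Ne.symm hj), neg_zero]
  have hnot : fundWeight b k' ∉ baseCorners b' := fun h => by
    have := coroot'_nonneg hnk h.2
    rw [coroot'_neg, show P.coroot' k (fundWeight b k') = 1 from coroot'_fundWeight_self b k'] at this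
    linarith
  have hcard : (baseCorners b ∩ baseCorners b').ncard + 1 = b.support.card := by
    have : baseCorners b ∩ baseCorners b' = fundWeight b '' {k'}ᶜ := by
      rw [baseCorners_eq b]
      refine Set.ext fun w => ⟨?_, ?_⟩
      · rintro ⟨⟨j, rfl⟩, h⟩
        exact ⟨j, fun e => hnot (by rw [← (e : j = k')]; exact h), rfl⟩
      · rintro ⟨j, hj, rfl⟩
        exact ⟨mem_range_self j, hcorner j hj⟩
    rw [this, Set.ncard_image_of_injective _ (fundWeight_injective b), Set.ncard_compl,
      Set.ncard_singleton, Nat.card_eq_fintype_card, Fintype.card_coe]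
    have : 0 < b.support.card := Finset.card_pos.2 ⟨k, hk⟩
    omega
  have hwall := hd.wall_le b b' k hcard hdiff
  set t := P.toLinearMap (fundWeight b k') (d b - d b')
  have hexp : d b - d b' = t • P.coroot k := by
    rw [coweight_expansion b (d b - d b'), Finset.sum_eq_single k']
    · intro j _ hj
      rw [map_sub, hd.corner_eq b b' _ (fundWeight_mem_baseCorners b j) (hcorner j hj), sub_self,
        zero_smul]
    · simp
  have ht : t ≤ 0 := by
    have := congrArg (P.root' k) hexp
    rw [map_sub, map_smul, show P.root' k (P.coroot k) = 2 from P.root_coroot_two k,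
      smul_eq_mul] at this
    linarith
  have hξk : P.coroot' k ξ ≤ 0 := by
    have := coroot'_nonneg hcnk hξ
    rw [coroot'_neg] at this; linarith
  have := congrArg (P.toLinearMap ξ) hexp
  rw [map_sub, map_smul, smul_eq_mul] at this
  have h2 : 0 ≤ t * P.toLinearMap ξ (P.coroot k) := mul_nonneg_of_nonpos_of_nonpos ht hξk
  linarith

lemma key_eq (hd : IsCCS d) {b c : P.Base} {ξ : M} (h : ξ ∈ closedChamber b)
    (h' : ξ ∈ closedChamber c) : P.toLinearMap ξ (d b) = P.toLinearMap ξ (d c) :=
  le_antisymm (key_le hd h c) (key_le hd h' b)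

lemma eq_on_cham (hd : IsCCS d) {F : Facet P} {b c : P.Base} (hb : b ∈ F.cham) (hc : c ∈ F.cham)
    {ξ : M} (hξ : ξ ∈ Submodule.span R F.corners) :
    P.toLinearMap ξ (d b) = P.toLinearMap ξ (d c) := by
  induction hξ using Submodule.span_induction with
  | mem w hw =>
    exact key_eq hd (closure_subset_closedChamber hb hw.2) (closure_subset_closedChamber hc hw.2)
  | zero => simp
  | add x y _ _ hx hy => simp [hx, hy]
  | smul r x _ hx => simp [hx]

omit [P.IsCrystallographic] [P.IsReduced] in
lemma toLinearMap_eq_of_hyper {F : Facet P} {b : P.Base} (hb : b ∈ F.cham) {y : N}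
    (hy : ∀ w ∈ F.corners, y ∈ hyper d w) {ξ : M} (hξ : ξ ∈ Submodule.span R F.corners) :
    P.toLinearMap ξ y = P.toLinearMap ξ (d b) := by
  induction hξ using Submodule.span_induction with
  | mem w hw => exact hy w hw b ⟨hw.1, closure_subset_closedChamber hb hw.2⟩
  | zero => simp
  | add x y _ _ hx hy => simp [hx, hy]
  | smul r x _ hx => simp [hx]

lemma mem_hyper_of_mem_dualSolid (hd : IsCCS d) {F : Facet P} {y : N}
    (hy : y ∈ dualSolid d F) {w : M} (hw : w ∈ F.corners) : y ∈ hyper d w := by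
  intro c hc
  refine eq_of_mem_convexHull ?_ hy
  rintro a ⟨b, hb, rfl⟩
  exact key_eq hd (closure_subset_closedChamber hb hw.2) hc.2

lemma dualSolid_subset_solid (F : Facet P) (d : P.Base → N) : dualSolid d F ⊆ solid d :=
  convexHull_mono (Set.image_subset_range d _)

lemma toLinearMap_le_of_mem_solid (hd : IsCCS d) {c : P.Base} {ξ : M} (hξ : ξ ∈ closedChamber c)
    {y : N} (hy : y ∈ solid d) : P.toLinearMap ξ (d c) ≤ P.toLinearMap ξ y := by
  refine le_of_mem_convexHull ?_ hy
  rintro a ⟨b, rfl⟩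
  exact key_le hd hξ b

lemma dualSolid_eq (hd : IsCCS d) (F : Facet P) :
    dualSolid d F = (⋂ m ∈ F.corners, hyper d m) ∩ ⋂ m ∈ F.corners', halfClosed d m := by
  refine Set.Subset.antisymm (fun y hy => ?_) fun y hy => ?_
  · simp only [mem_inter_iff, mem_iInter]
    refine ⟨fun w hw => mem_hyper_of_mem_dualSolid hd hy hw, fun w _ c hc => ?_⟩
    exact toLinearMap_le_of_mem_solid hd hc.2 (dualSolid_subset_solid F d hy)
  simp only [mem_inter_iff, mem_iInter] at hy
  obtain ⟨hy1, hy2⟩ := hy
  refine mem_convexHull_of_forall (P := P) ((Set.toFinite _).image d) ((cham_nonempty F).image d) fun ξ => ?_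
  obtain ⟨η, hη⟩ := carrier_nonempty F
  obtain ⟨ε, hε, hlt⟩ := exists_eps (fun i => P.coroot' i η) (fun i => P.coroot' i ξ)
  obtain ⟨c, hc⟩ := exists_base_closedChamber (P := P) (η + ε • ξ)
  have hcF : c ∈ F.cham := by
    refine (mem_cham_iff hη).2 fun j hj => ?_
    by_contra hneg
    push Not at hneg
    have h1 := hc j hj
    rw [map_add, map_smul, smul_eq_mul] at h1
    have h2 := hlt j hneg.ne
    rw [abs_of_neg hneg] at h2
    have := le_abs_self (ε * P.coroot' j ξ)
    linarith
  refine ⟨d c, ⟨c, hcF, rfl⟩, ?_⟩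
  have h1 : P.toLinearMap (η + ε • ξ) (d c) ≤ P.toLinearMap (η + ε • ξ) y := by
    rw [weight_expansion c (η + ε • ξ)]
    simp only [map_sum, map_smul, LinearMap.sum_apply, LinearMap.smul_apply, smul_eq_mul]
    refine Finset.sum_le_sum fun j _ => mul_le_mul_of_nonneg_left ?_ (hc j j.2)
    have hmem := fundWeight_mem_baseCorners c j
    exact hy2 _ (mem_biUnion hcF hmem) c hmem
  have h2 : P.toLinearMap η y = P.toLinearMap η (d c) :=
    toLinearMap_eq_of_hyper hcF hy1
      (by rw [← span_carrier]; exact Submodule.subset_span hη)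
  simp only [map_add, map_smul, LinearMap.add_apply, LinearMap.smul_apply, smul_eq_mul] at h1
  exact le_of_mul_le_mul_left (by linarith) hε

lemma isSemistable_iff (hd : IsCCS d) :
    IsSemistable d ↔ ∀ b : P.Base, ∀ m ∈ baseCorners b, P.toLinearMap m (d b) ≤ 0 := by
  refine ⟨fun h b m hm => ?_, fun h => ?_⟩
  · simpa using toLinearMap_le_of_mem_solid hd hm.2 h
  · obtain ⟨b₀, -⟩ := exists_base_closedChamber (P := P) 0
    refine mem_convexHull_of_forall (P := P) (Set.finite_range d) ⟨_, b₀, rfl⟩ fun ξ => ?_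
    obtain ⟨c, hc⟩ := exists_base_closedChamber (P := P) ξ
    refine ⟨d c, ⟨c, rfl⟩, ?_⟩
    rw [map_zero, weight_expansion c ξ]
    simp only [map_sum, map_smul, LinearMap.sum_apply, LinearMap.smul_apply, smul_eq_mul]
    exact Finset.sum_nonpos fun j _ =>
      mul_nonpos_of_nonneg_of_nonpos (hc j j.2) (h c _ (fundWeight_mem_baseCorners c j))

variable (d)

/-- The sum of the roots of the parabolic set. -/
def sigma (F : Facet P) : M := ∑ i ∈ (Set.toFinite F.parab).toFinset, P.root i

omit [P.IsCrystallographic] [P.IsReduced] in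
lemma deg_eq (F : Facet P) (b : P.Base) : F.deg d b = P.toLinearMap (sigma F) (d b) := by
  simp [Facet.deg, sigma, RootPairing.root', map_sum, LinearMap.sum_apply]

omit [P.IsCrystallographic] [P.IsReduced] in
lemma numInv_eq (F : Facet P) (w : M) (b : P.Base) :
    F.numInv d w b =
      P.toLinearMap (∑ i ∈ (Set.toFinite (F.Psi w)).toFinset, P.root i) (d b) := by
  simp [Facet.numInv, RootPairing.root', map_sum, LinearMap.sum_apply]

variable {d}

lemma sigma_mem_carrier (F : Facet P) : sigma F ∈ F.carrier := sum_parab_mem_carrier F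

lemma deg_eq_deg (hd : IsCCS d) {F : Facet P} {b c : P.Base} (hb : b ∈ F.cham) (hc : c ∈ F.cham) :
    F.deg d b = F.deg d c := by
  rw [deg_eq, deg_eq]
  exact key_eq hd (hb (sigma_mem_carrier F)) (hc (sigma_mem_carrier F))

lemma deg_nonpos (hd : IsCCS d) (h : IsSemistable d) {F : Facet P} {b : P.Base} (hb : b ∈ F.cham) :
    F.deg d b ≤ 0 := by
  have := toLinearMap_le_of_mem_solid hd (hb (sigma_mem_carrier F)) h
  rw [deg_eq]
  simpa using this

lemma isSemistable_of_deg_nonpos (hd : IsCCS d)
    (h : ∀ (F : Facet P) (b : P.Base), F.dim = 1 → b ∈ F.cham → F.deg d b ≤ 0) :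
    IsSemistable d := by
  refine (isSemistable_iff hd).2 fun b m hm => ?_
  obtain ⟨j, rfl⟩ := (baseCorners_eq b).subset hm
  obtain ⟨G, hG, hs, hc⟩ := exists_facet_of_set b {j}
  have hdim : G.dim = 1 := by
    rw [Facet.dim, span_carrier, hc, Set.image_singleton]
    exact finrank_span_singleton ((linearIndependent_fundWeight b).ne_zero j)
  have h1 := h G b hdim hG
  rw [deg_eq] at h1
  obtain ⟨e1, e2, e3⟩ := carrier_expansion hG (sigma_mem_carrier G)
  rw [e1, Finset.sum_eq_single j] at h1
  · rw [map_smul, LinearMap.smul_apply, smul_eq_mul] at h1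
    exact nonpos_of_mul_nonpos_right h1 (e3 j ((hs j).2 rfl))
  · intro i _ hi
    rw [e2 i (by_contra fun h0 => hi ((hs i).1 h0)), zero_smul]
  · simp

lemma numInv_eq_numInv (hd : IsCCS d) {F : Facet P} {m : M} (hm : m ∈ F.corners) {b c : P.Base}
    (hb : b ∈ F.cham) (hc : c ∈ F.cham) : F.numInv d m b = F.numInv d m c := by
  rw [numInv_eq, numInv_eq]
  exact eq_on_cham hd hb hc (sum_Psi_mem_span F hm)

end RootChLib

end
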