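import Groth.Agent.RootChLib.Solid

/-! Special facets. -/

noncomputable section

namespace RootChLib

open Module RootPairing RootCh Set

variable {ι R M N : Type*} [Field R] [LinearOrder R] [IsStrictOrderedRing R]
  [AddCommGroup M] [Module R M] [AddCommGroup N] [Module R N] [Fintype ι]
  {P : RootPairing ι R M N} [P.IsRootSystem]

/-- The vector of M representing `B y`. -/
def psi (B : LinearMap.BilinForm R N) (y : N) : M := P.toPerfPair.symm (B y)

omit [LinearOrder R] [IsStrictOrderedRing R] [Fintype ι] [P.IsRootSystem] in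
lemma toLinearMap_psi (B : LinearMap.BilinForm R N) (y z : N) :
    P.toLinearMap (psi (P := P) B y) z = B y z := by
  rw [psi, show P.toLinearMap (P.toPerfPair.symm (B y)) = B y from
    P.toLinearMap.apply_symm_toPerfPair_self _]

omit [Fintype ι] [P.IsRootSystem] in
lemma sgnVec_psi (B : LinearMap.BilinForm R N) (hBs : ∀ y z : N, B y z = B z y)
    (hBp : ∀ y : N, y ≠ 0 → 0 < B y y)
    (hBi : ∀ (i : ι) (y z : N), B (P.coreflection i y) (P.coreflection i z) = B y z) (y : N) :
    sgnVec P (psi (P := P) B y) = cosgnVec P y := by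
  funext i
  have h := hBi i y (P.coroot i)
  rw [P.coreflection_apply_self, P.coreflection_apply, map_neg, map_sub, LinearMap.sub_apply,
    map_smul, LinearMap.smul_apply, smul_eq_mul] at h
  have hp := hBp (P.coroot i) (P.flip.ne_zero i)
  have e : P.coroot' i (psi (P := P) B y) = B (P.coroot i) (P.coroot i) / 2 * P.root' i y := by
    show P.toLinearMap (psi (P := P) B y) (P.coroot i) = _
    rw [toLinearMap_psi]
    simp only [RootPairing.root'] at h ⊢
    linear_combination (-1 / 2 : R) * h
  rw [sgnVec, cosgnVec, e, sign_mul, sign_pos (half_pos hp), one_mul]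

lemma psi_mem_carrier (B : LinearMap.BilinForm R N) (hBs : ∀ y z : N, B y z = B z y)
    (hBp : ∀ y : N, y ≠ 0 → 0 < B y y)
    (hBi : ∀ (i : ι) (y z : N), B (P.coreflection i y) (P.coreflection i z) = B y z)
    {F : Facet P} {y : N} (hy : y ∈ F.dualCarrier) : psi (P := P) B y ∈ F.carrier :=
  (sgnVec_psi B hBs hBp hBi y).trans hy

lemma span_dualCarrier (F : Facet P) :
    Submodule.span R F.dualCarrier = (Submodule.span R F.carrier).map (phi P).toLinearMap := by
  rw [dualCarrier_eq, Submodule.map_span]; rfl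

lemma corootForm_invariant (i : ι) (y z : N) :
    P.CorootForm (P.coreflection i y) (P.coreflection i z) = P.CorootForm y z :=
  P.flip.rootForm_reflection_reflection_apply i y z

variable [P.IsCrystallographic] [P.IsReduced] {d : P.Base → N}

lemma symm_mem_span_corners {F : Facet P} {y : N} (hy : y ∈ Submodule.span R F.dualCarrier) :
    (phi P).symm y ∈ Submodule.span R F.corners := by
  rw [span_dualCarrier, Submodule.mem_map] at hy
  obtain ⟨u, hu, rfl⟩ := hy
  rw [← span_carrier]
  simpa using hu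

lemma yLocus_unique {F : Facet P} {y z : N} (hy : y ∈ yLocus d F) (hz : z ∈ yLocus d F) :
    y = z := by
  obtain ⟨b, hb⟩ := cham_nonempty F
  obtain ⟨hy1, hy2⟩ := hy
  obtain ⟨hz1, hz2⟩ := hz
  simp only [mem_iInter] at hy1 hz1
  have hu := symm_mem_span_corners (Submodule.sub_mem _ hy2 hz2)
  set u := (phi P).symm (y - z)
  have h0 : P.RootForm u u = 0 := by
    rw [← toLinearMap_phi, LinearEquiv.apply_symm_apply, map_sub,
      toLinearMap_eq_of_hyper hb hy1 hu, toLinearMap_eq_of_hyper hb hz1 hu, sub_self]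
  have hu0 : u = 0 := by_contra fun h => (rootForm_pos h).ne' h0
  exact sub_eq_zero.1 ((phi P).symm.map_eq_zero_iff.1 hu0)

lemma special_point_mem_yLocus (hd : IsCCS d) {F : Facet P} {y : N}
    (hy : y ∈ F.dualCarrier ∩ dualSolid d F) : y ∈ yLocus d F :=
  ⟨mem_iInter₂.2 fun _ hw => mem_hyper_of_mem_dualSolid hd hy.2 hw, Submodule.subset_span hy.1⟩

lemma yLocus_eq (hd : IsCCS d) {F : Facet P} {y : N} (hy : y ∈ F.dualCarrier ∩ dualSolid d F) :
    yLocus d F = {y} :=
  Set.eq_singleton_iff_unique_mem.2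
    ⟨special_point_mem_yLocus hd hy, fun _ hz => yLocus_unique hz (special_point_mem_yLocus hd hy)⟩

lemma special_inter_eq (hd : IsCCS d) {F : Facet P} {y : N}
    (hy : y ∈ F.dualCarrier ∩ dualSolid d F) : F.dualCarrier ∩ dualSolid d F = {y} :=
  Set.eq_singleton_iff_unique_mem.2 ⟨hy, fun _ hz =>
    yLocus_unique (special_point_mem_yLocus hd hz) (special_point_mem_yLocus hd hy)⟩

lemma strict_min (hd : IsCCS d) (B : LinearMap.BilinForm R N)
    (hBs : ∀ y z : N, B y z = B z y) (hBp : ∀ y : N, y ≠ 0 → 0 < B y y)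
    (hBi : ∀ (i : ι) (y z : N), B (P.coreflection i y) (P.coreflection i z) = B y z)
    {F : Facet P} {y₀ : N} (hy₀ : y₀ ∈ F.dualCarrier ∩ dualSolid d F)
    {y : N} (hy : y ∈ solid d) (hne : y ≠ y₀) : B y₀ y₀ < B y y := by
  obtain ⟨b, hb⟩ := cham_nonempty F
  have hξ := psi_mem_carrier B hBs hBp hBi hy₀.1
  have h1 := toLinearMap_le_of_mem_solid hd (hb hξ) hy
  rw [← toLinearMap_eq_of_hyper hb (fun w hw => mem_hyper_of_mem_dualSolid hd hy₀.2 hw)
    (by rw [← span_carrier]; exact Submodule.subset_span hξ), toLinearMap_psi, toLinearMap_psi] at h1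
  have h2 := bilin_add_smul_self B hBs y₀ (y - y₀) 1
  rw [one_smul, add_sub_cancel, map_sub] at h2
  have h3 := hBp (y - y₀) (sub_ne_zero.2 hne)
  linarith

lemma special_of_min (hd : IsCCS d) (B : LinearMap.BilinForm R N)
    (hBs : ∀ y z : N, B y z = B z y) (hBp : ∀ y : N, y ≠ 0 → 0 < B y y)
    (hBi : ∀ (i : ι) (y z : N), B (P.coreflection i y) (P.coreflection i z) = B y z)
    {y₀ : N} (hy₀ : y₀ ∈ solid d) (hmin : ∀ y ∈ solid d, B y₀ y₀ ≤ B y y)
    {F : Facet P} (hF : y₀ ∈ F.dualCarrier) : y₀ ∈ F.dualCarrier ∩ dualSolid d F := by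
  refine ⟨hF, ?_⟩
  rw [dualSolid_eq hd F]
  obtain ⟨b, hb⟩ := cham_nonempty F
  have hξ := psi_mem_carrier B hBs hBp hBi hF
  set ξ := psi (P := P) B y₀
  have h1 : P.toLinearMap ξ y₀ ≤ P.toLinearMap ξ (d b) := by
    rw [toLinearMap_psi, toLinearMap_psi]
    have := min_variational B hBs hBp (convex_convexHull R _) hy₀ hmin
      (subset_convexHull R _ (mem_range_self b))
    rw [map_sub] at this; linarith
  obtain ⟨e1, e2, e3⟩ := carrier_expansion hb hξ
  have hle : ∀ j : b.support, P.toLinearMap (fundWeight b j) (d b) ≤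
      P.toLinearMap (fundWeight b j) y₀ :=
    fun j => toLinearMap_le_of_mem_solid hd (fundWeight_mem_closedChamber b j) hy₀
  have hnn : ∀ j ∈ (Finset.univ : Finset b.support), 0 ≤ P.coroot' j ξ *
      (P.toLinearMap (fundWeight b j) y₀ - P.toLinearMap (fundWeight b j) (d b)) :=
    fun j _ => mul_nonneg (hb hξ j j.2) (sub_nonneg.2 (hle j))
  have hz : ∀ j : b.support, P.coroot' j ξ *
      (P.toLinearMap (fundWeight b j) y₀ - P.toLinearMap (fundWeight b j) (d b)) = 0 := by
    intro j
    refine (Finset.sum_eq_zero_iff_of_nonneg hnn).1 (le_antisymm ?_ (Finset.sum_nonneg hnn)) j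
      (Finset.mem_univ j)
    rw [e1] at h1
    simp only [map_sum, map_smul, LinearMap.sum_apply, LinearMap.smul_apply, smul_eq_mul] at h1
    simp only [mul_sub, Finset.sum_sub_distrib]
    linarith
  simp only [mem_inter_iff, mem_iInter]
  refine ⟨fun w hw c hc => ?_, fun w _ c hc => toLinearMap_le_of_mem_solid hd hc.2 hy₀⟩
  obtain ⟨j, hj, rfl⟩ := (corners_eq hb).subset hw
  rw [key_eq hd hc.2 (fundWeight_mem_closedChamber b j)]
  exact sub_eq_zero.1 ((mul_eq_zero.1 (hz j)).resolve_left (e3 j hj).ne')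

lemma existsUnique_special (hd : IsCCS d) : ∃! F : Facet P, IsSpecial d F := by
  classical
  obtain ⟨b₀, -⟩ := exists_base_closedChamber (P := P) 0
  have hfin : (Set.range d).Finite := Set.finite_range d
  obtain ⟨y₀, hy₀, hmin⟩ := exists_min_convexHull P.CorootForm corootForm_symm corootForm_pos
    (T := hfin.toFinset) ((Set.Finite.toFinset_nonempty hfin).2 ⟨_, b₀, rfl⟩)
  rw [hfin.coe_toFinset] at hy₀ hmin
  have hF : y₀ ∈ (Facet.ofVec P ((phi P).symm y₀)).dualCarrier := cosgnVec_eq y₀
  refine ⟨_, ⟨y₀, special_of_min hd P.CorootForm corootForm_symm corootForm_pos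
    corootForm_invariant hy₀ hmin hF⟩, fun G ⟨y, hy⟩ => ?_⟩
  have : y₀ = y := by_contra fun hne => not_lt.2 (hmin y (dualSolid_subset_solid G d hy.2))
    (strict_min hd P.CorootForm corootForm_symm corootForm_pos corootForm_invariant hy hy₀ hne)
  subst this
  exact Facet.ext ((hy.1 : cosgnVec P y₀ = G.sgn).symm.trans hF)

lemma deg_special (hd : IsCCS d) {F G : Facet P} {b c : P.Base} (hb : b ∈ F.cham)
    (hc : c ∈ G.cham) {y : N} (hy : y ∈ F.dualCarrier ∩ dualSolid d F) :
    G.deg d c ≤ F.deg d b ∧ (G.deg d c = F.deg d b → G ≤ F) := by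
  classical
  let f : ι → R := fun i => P.root' i y
  have hpar : ∀ i, i ∈ F.parab ↔ 0 ≤ f i := fun i => by
    rw [← sign_nonneg_iff, show SignType.sign (f i) = F.sgn i from congrFun hy.1 i]
    show F.sgn i ≠ -1 ↔ _
    cases F.sgn i <;> decide
  have hsum : ∀ H : Facet P, P.toLinearMap (sigma H) y = ∑ i ∈ H.parab.toFinite.toFinset, f i :=
    fun H => by simp [f, sigma, RootPairing.root', map_sum, LinearMap.sum_apply]
  have hF : F.deg d b = ∑ i, max (f i) 0 := by
    rw [deg_eq, ← toLinearMap_eq_of_hyper hb (fun w hw => mem_hyper_of_mem_dualSolid hd hy.2 hw)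
      (by rw [← span_carrier]; exact Submodule.subset_span (sigma_mem_carrier F)), hsum,
      ← Finset.sum_subset (Finset.subset_univ F.parab.toFinite.toFinset)]
    · exact Finset.sum_congr rfl fun i hi =>
        (max_eq_left ((hpar i).1 ((Set.Finite.mem_toFinset _).1 hi))).symm
    · intro i _ hi
      refine max_eq_right (le_of_not_ge fun h => hi ?_)
      exact (Set.Finite.mem_toFinset _).2 ((hpar i).2 h)
  have h1 : G.deg d c ≤ ∑ i ∈ G.parab.toFinite.toFinset, f i := by
    rw [deg_eq, ← hsum]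
    exact toLinearMap_le_of_mem_solid hd (hc (sigma_mem_carrier G))
      (dualSolid_subset_solid F d hy.2)
  have h2 : ∑ i ∈ G.parab.toFinite.toFinset, f i ≤
      ∑ i ∈ G.parab.toFinite.toFinset, max (f i) 0 :=
    Finset.sum_le_sum fun i _ => le_max_left _ _
  have h3 : ∑ i ∈ G.parab.toFinite.toFinset, max (f i) 0 ≤ ∑ i, max (f i) 0 :=
    Finset.sum_le_sum_of_subset_of_nonneg (Finset.subset_univ _) fun i _ _ => le_max_right _ _
  refine ⟨by linarith, fun he => (le_iff_parab_subset G F).2 fun i hi => (hpar i).2 ?_⟩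
  have h4 : ∑ i ∈ G.parab.toFinite.toFinset, f i =
      ∑ i ∈ G.parab.toFinite.toFinset, max (f i) 0 := by linarith
  have := (Finset.sum_eq_sum_iff_of_le fun i _ => le_max_left (f i) 0).1 h4 i
    ((Set.Finite.mem_toFinset _).2 hi)
  rw [this]
  exact le_max_right _ _

lemma special_iff_numInv (hd : IsCCS d) (F : Facet P) :
    ((∀ m ∈ F.corners, ∀ b ∈ F.cham, 0 < F.numInv d m b) ∧
        (dualSolid d F ∩ (Submodule.span R F.dualCarrier : Set N)).Nonempty) ↔
      IsSpecial d F := by
  classical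
  have key : ∀ y ∈ dualSolid d F, y ∈ Submodule.span R F.dualCarrier → ∀ b ∈ F.cham,
      ∀ j : b.support, F.sgn j ≠ 0 →
        (0 < F.numInv d (fundWeight b j) b ↔ 0 < P.coroot' j ((phi P).symm y)) := by
    intro y hy hy' b hb j hj
    have hm := (fundWeight_mem_corners_iff hb j).2 hj
    have hu := symm_mem_span_corners hy'
    set u := (phi P).symm y
    set T := (Set.toFinite (F.Psi (fundWeight b j))).toFinset
    set cj := P.RootForm (P.root j) (P.root j) / 2 * P.coroot' j u
    have hu0 : ∀ l : b.support, F.sgn l = 0 → P.coroot' l u = 0 := by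
      intro l hl
      have hle : Submodule.span R F.corners ≤ LinearMap.ker (P.coroot' (l : ι)) := by
        refine Submodule.span_le.2 ?_
        rw [corners_eq hb]
        rintro w ⟨k, hk, rfl⟩
        show P.coroot' l (fundWeight b k) = 0
        rw [coroot'_fundWeight, if_neg]
        rintro rfl
        exact hk hl
      exact hle hu
    have hroot : ∀ i ∈ T, P.root' i y = cj := by
      intro i hi
      rw [Set.Finite.mem_toFinset, mem_Psi_iff hb] at hi
      rw [show y = phi P u from ((phi P).apply_symm_apply y).symm, root'_eq_sum_cf b i,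
        Finset.sum_eq_single j]
      · rw [hi.1, one_mul, root'_phi_eq]
      · intro l _ hl
        by_cases h0 : F.sgn l = 0
        · rw [root'_phi_eq, hu0 l h0, mul_zero, mul_zero]
        · rw [hi.2 l h0 hl, zero_mul]
      · simp
    have hjT : (j : ι) ∈ T := by
      rw [Set.Finite.mem_toFinset, mem_Psi_iff hb]
      refine ⟨by rw [cf_simple, if_pos rfl], fun l _ hl => by rw [cf_simple, if_neg (Ne.symm hl)]⟩
    have hcard : (0 : R) < T.card := by exact_mod_cast Finset.card_pos.2 ⟨_, hjT⟩
    have hval : F.numInv d (fundWeight b j) b = (T.card : R) * cj := by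
      rw [numInv_eq, ← toLinearMap_eq_of_hyper hb
        (fun w hw => mem_hyper_of_mem_dualSolid hd hy hw) (sum_Psi_mem_span F hm)]
      simp only [map_sum, LinearMap.sum_apply]
      rw [Finset.sum_congr rfl (g := fun _ => cj) fun i hi => hroot i hi, Finset.sum_const,
        nsmul_eq_mul]
    rw [hval, mul_pos_iff_of_pos_left hcard,
      mul_pos_iff_of_pos_left (half_pos (rootForm_root_pos (j : ι)))]
  constructor
  · rintro ⟨hn, y, hy, hy'⟩
    obtain ⟨b, hb⟩ := cham_nonempty F
    have hu := symm_mem_span_corners hy'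
    refine ⟨y, ?_, hy⟩
    show cosgnVec P y = F.sgn
    rw [cosgnVec_eq]
    show (phi P).symm y ∈ F.carrier
    rw [weight_expansion b ((phi P).symm y)]
    refine mem_carrier_weight_sum hb _ (fun l hl => ?_) (fun j hj =>
      (key y hy hy' b hb j hj).1 (hn _ ((fundWeight_mem_corners_iff hb j).2 hj) b hb))
    have hle : Submodule.span R F.corners ≤ LinearMap.ker (P.coroot' (l : ι)) := by
      refine Submodule.span_le.2 ?_
      rw [corners_eq hb]
      rintro w ⟨k, hk, rfl⟩
      show P.coroot' l (fundWeight b k) = 0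
      rw [coroot'_fundWeight, if_neg]
      rintro rfl
      exact hk hl
    exact hle hu
  · rintro ⟨y, hy1, hy2⟩
    refine ⟨fun m hm b hb => ?_, y, hy2, Submodule.subset_span hy1⟩
    obtain ⟨j, hj, rfl⟩ := (corners_eq hb).subset hm
    refine (key y hy2 (Submodule.subset_span hy1) b hb j hj).2 ?_
    have hu : (phi P).symm y ∈ F.carrier := (cosgnVec_eq y).symm.trans hy1
    exact (carrier_expansion hb hu).2.2 j hj

end RootChLib

end
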